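import Groth.Agent.WDiv.K654.OrdAff

/-!
# Functoriality of function fields; functions coming from the generic point of the base
-/

set_option autoImplicit false
universe u

open CategoryTheory AlgebraicGeometry TopologicalSpace IsLocalRing

namespace K654.FfTrans

open K654.OrdMap K654.OrdAff

theorem ff_trans {X Y Z : Scheme.{u}} [IsIntegral X] [IsIntegral Y] [IsIntegral Z] (f : Y ⟶ X)
    (hf : f (genericPoint Y) = genericPoint X) (g : Z ⟶ Y)
    (hg : g (genericPoint Z) = genericPoint Y) (h : Z ⟶ X)
    (hh : h (genericPoint Z) = genericPoint X) (w : g ≫ f = h) :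
    ff f hf ≫ ff g hg = ff h hh := by
  subst w
  unfold ff
  rw [Category.assoc, ← Scheme.Hom.stalkSpecializes_stalkMap_assoc f _ _ (specializes_of_eq hg),
    ← Category.assoc, TopCat.Presheaf.stalkSpecializes_comp, Scheme.Hom.stalkMap_comp]
  rfl

theorem ff_trans_apply {X Y Z : Scheme.{u}} [IsIntegral X] [IsIntegral Y] [IsIntegral Z]
    (f : Y ⟶ X) (hf : f (genericPoint Y) = genericPoint X) (g : Z ⟶ Y)
    (hg : g (genericPoint Z) = genericPoint Y) (h : Z ⟶ X)
    (hh : h (genericPoint Z) = genericPoint X) (w : g ≫ f = h) (a : X.functionField) :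
    (ff g hg).hom ((ff f hf).hom a) = (ff h hh).hom a := by
  rw [← ff_trans f hf g hg h hh w]
  rfl

theorem exists_stalk_generic {X : Scheme.{u}} [IsIntegral X] (x : X) (hx : x = genericPoint X)
    (f : X.functionField) (hf : f ≠ 0) :
    ∃ a : X.presheaf.stalk x, IsUnit a ∧
      (X.presheaf.stalkSpecializes (genericPoint_specializes x)).hom a = f := by
  subst hx
  refine ⟨f, hf.isUnit, ?_⟩
  have h1 := X.presheaf.stalkSpecializes_refl (genericPoint X)
  exact congrArg (fun φ : X.presheaf.stalk (genericPoint X) ⟶ X.presheaf.stalk (genericPoint X) =>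
    φ.hom f) h1

/-- Rational functions from the base have no zeros and poles at points over the generic point. -/
theorem ord_ff_of_generic {X Y : Scheme.{u}} [IsIntegral X] [IsIntegral Y]
    [IsLocallyNoetherian Y] (f : Y ⟶ X) (hf : f (genericPoint Y) = genericPoint X) (y : Y)
    (hy : f y = genericPoint X) (g : X.functionField) (hg : g ≠ 0) :
    Scheme.ord ((ff f hf).hom g) y = 0 := by
  obtain ⟨a, ha, rfl⟩ := exists_stalk_generic (f y) hy g hg
  have h1 : (ff f hf).hom ((X.presheaf.stalkSpecializes (genericPoint_specializes (f y))).hom a) =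
      algebraMap (Y.presheaf.stalk y) Y.functionField ((f.stalkMap y).hom a) :=
    congrArg (fun φ : X.presheaf.stalk (f y) ⟶ Y.functionField => φ.hom a) (ff_comp f hf y)
  rw [h1]
  exact ord_algebraMap_unit y _ (ha.map (f.stalkMap y).hom)

end K654.FfTrans
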