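import Groth.Agent.WDiv.K654.PolyMap
import Mathlib.AlgebraicGeometry.AffineSpace

/-!
# Affine spaces over schemes and polynomial rings
-/

set_option autoImplicit false
universe u

open CategoryTheory AlgebraicGeometry TopologicalSpace CategoryTheory.Limits

namespace K654.PolyMap

theorem isAffineOpen_of_square {X Y Z : Scheme.{u}} [IsAffine Z] (q : Y ⟶ X) {U : X.Opens}
    (hU : IsAffineOpen U) (j : Z ⟶ Y) (p : Z ⟶ Spec Γ(X, U)) (h : IsPullback j p q hU.fromSpec) :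
    ∃ _ : IsOpenImmersion j, j.opensRange = q ⁻¹ᵁ U ∧ IsAffineOpen (q ⁻¹ᵁ U) := by
  have h1 : IsOpenImmersion j := MorphismProperty.of_isPullback h.flip inferInstance
  have h2 : j.opensRange = q ⁻¹ᵁ U := by
    have h3 : Set.range j = q ⁻¹' (Set.range hU.fromSpec) := by
      have h4 : j = h.isoPullback.hom ≫ pullback.fst q hU.fromSpec := h.isoPullback_hom_fst.symm
      rw [h4, Scheme.Hom.comp_base, TopCat.coe_comp, Set.range_comp,
        Set.range_eq_univ.mpr h.isoPullback.hom.surjective, Set.image_univ]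
      exact IsOpenImmersion.range_pullbackFst hU.fromSpec q
    apply Opens.ext
    change Set.range j = q ⁻¹' (U : Set X)
    rw [h3, hU.range_fromSpec]
  refine ⟨h1, h2, ?_⟩
  rw [← h2]
  exact isAffineOpen_opensRange j

/-- A morphism which over each affine open is the spectrum of a polynomial ring. -/
theorem isPoly_of_square {σ : Type u} {X Y : Scheme.{u}} (q : Y ⟶ X)
    (H : ∀ (U : X.Opens) (hU : IsAffineOpen U),
      ∃ j : Spec (CommRingCat.of (MvPolynomial σ Γ(X, U))) ⟶ Y,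
        IsPullback j (Spec.map (CommRingCat.ofHom MvPolynomial.C)) q hU.fromSpec) :
    IsPoly σ q where
  affine U hU := by
    obtain ⟨j, hj⟩ := H U hU
    exact (isAffineOpen_of_square q hU j _ hj).2.2
  exists_equiv U hU := by
    obtain ⟨j, hj⟩ := H U hU
    obtain ⟨h1, h2, -⟩ := isAffineOpen_of_square q hU j _ hj
    have hle : (⊤ : (Spec (CommRingCat.of (MvPolynomial σ Γ(X, U)))).Opens) ≤ j ⁻¹ᵁ (q ⁻¹ᵁ U) := by
      rw [← h2]
      intro z _
      exact ⟨z, rfl⟩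
    have htop : j ⁻¹ᵁ (q ⁻¹ᵁ U) = ⊤ := top_le_iff.mp hle
    let e' : Γ(Y, q ⁻¹ᵁ U) ⟶ CommRingCat.of (MvPolynomial σ Γ(X, U)) :=
      j.appLE (q ⁻¹ᵁ U) ⊤ hle ≫ (Scheme.ΓSpecIso _).hom
    have hiso : IsIso e' := by
      have h3 : IsIso (j.app (q ⁻¹ᵁ U)) := j.isIso_app _ h2.ge
      have h4 : j.appLE (q ⁻¹ᵁ U) ⊤ hle = j.app (q ⁻¹ᵁ U) ≫
        (Spec (CommRingCat.of (MvPolynomial σ Γ(X, U)))).presheaf.map (eqToHom htop.symm).op := rfl
      have h5 : IsIso (j.appLE (q ⁻¹ᵁ U) ⊤ hle) := by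
        rw [h4]
        infer_instance
      infer_instance
    have hcomp : q.app U ≫ e' = CommRingCat.ofHom MvPolynomial.C := by
      have h6 : q.app U ≫ j.appLE (q ⁻¹ᵁ U) ⊤ hle = (j ≫ q).appLE U ⊤ hle :=
        (Scheme.Hom.comp_appLE j q U ⊤ hle).symm
      have hle2 : (⊤ : (Spec Γ(X, U)).Opens) ≤ hU.fromSpec ⁻¹ᵁ U := by
        rw [hU.fromSpec_preimage_self]
      have h7 : hU.fromSpec.appLE U ⊤ hle2 ≫ (Scheme.ΓSpecIso Γ(X, U)).hom = 𝟙 _ := by
        have h8 : hU.fromSpec.appLE U ⊤ hle2 = hU.fromSpec.app U ≫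
          (Spec Γ(X, U)).presheaf.map (eqToHom hU.fromSpec_preimage_self.symm).op := rfl
        rw [h8, hU.fromSpec_app_self, Category.assoc, Category.assoc, ← Functor.map_comp_assoc]
        simp
      have h9 : ∀ (w : Spec (CommRingCat.of (MvPolynomial σ Γ(X, U))) ⟶ X) (hw : j ≫ q = w)
        (hle3 : (⊤ : (Spec (CommRingCat.of (MvPolynomial σ Γ(X, U)))).Opens) ≤ w ⁻¹ᵁ U),
        (j ≫ q).appLE U ⊤ hle = w.appLE U ⊤ hle3 := by
        rintro w rfl hle3
        rfl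
      have hle4 : (⊤ : (Spec (CommRingCat.of (MvPolynomial σ Γ(X, U)))).Opens) ≤
          (Spec.map (CommRingCat.ofHom (MvPolynomial.C :
          Γ(X, U) →+* MvPolynomial σ Γ(X, U))) ≫ hU.fromSpec) ⁻¹ᵁ U := by
        rw [← hj.w]
        exact hle
      have h10 : (Spec.map (CommRingCat.ofHom (MvPolynomial.C :
          Γ(X, U) →+* MvPolynomial σ Γ(X, U))) ≫ hU.fromSpec).appLE U ⊤ hle4 =
          hU.fromSpec.appLE U ⊤ hle2 ≫ (Spec.map (CommRingCat.ofHom (MvPolynomial.C :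
          Γ(X, U) →+* MvPolynomial σ Γ(X, U)))).appTop := by
        rw [← Scheme.Hom.appLE_comp_appLE _ _ U ⊤ ⊤ hle2 le_top]
        congr 1
      have h11 : (Spec.map (CommRingCat.ofHom (MvPolynomial.C :
          Γ(X, U) →+* MvPolynomial σ Γ(X, U)))).appTop ≫ (Scheme.ΓSpecIso _).hom =
          (Scheme.ΓSpecIso Γ(X, U)).hom ≫ CommRingCat.ofHom (MvPolynomial.C :
          Γ(X, U) →+* MvPolynomial σ Γ(X, U)) :=
        Scheme.ΓSpecIso_naturality (CommRingCat.ofHom (MvPolynomial.C :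
          Γ(X, U) →+* MvPolynomial σ Γ(X, U)))
      calc q.app U ≫ e' = (q.app U ≫ j.appLE (q ⁻¹ᵁ U) ⊤ hle) ≫ (Scheme.ΓSpecIso _).hom := by
            rw [Category.assoc]
        _ = (hU.fromSpec.appLE U ⊤ hle2 ≫ (Spec.map (CommRingCat.ofHom (MvPolynomial.C :
          Γ(X, U) →+* MvPolynomial σ Γ(X, U)))).appTop) ≫ (Scheme.ΓSpecIso _).hom := by
            rw [h6, h9 _ hj.w hle4, h10]
        _ = _ := by
            rw [Category.assoc, h11, ← Category.assoc, h7, Category.id_comp]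
    refine ⟨(asIso e').commRingCatIsoToRingEquiv.symm, fun a => ?_⟩
    rw [RingEquiv.symm_apply_eq]
    exact (congrArg (fun φ : Γ(X, U) ⟶ CommRingCat.of (MvPolynomial σ Γ(X, U)) => φ.hom a)
      hcomp).symm

/-- Affine spaces are locally polynomial. -/
theorem isPoly_affineSpace (n : Type u) (X : Scheme.{u}) : IsPoly n (𝔸(n; X) ↘ X) := by
  refine isPoly_of_square _ fun U hU => ?_
  refine ⟨(AffineSpace.SpecIso n Γ(X, U)).inv ≫ AffineSpace.map n hU.fromSpec, ?_⟩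
  have h1 := AffineSpace.isPullback_map (n := n) hU.fromSpec
  refine h1.of_iso (AffineSpace.SpecIso n Γ(X, U)) (Iso.refl _) (Iso.refl _) (Iso.refl _) ?_ ?_ ?_ ?_
  · simp
  · rw [Iso.refl_hom, Category.comp_id, ← AffineSpace.SpecIso_inv_over, Iso.hom_inv_id_assoc]
  · simp
  · simp

end K654.PolyMap
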