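import Groth.Agent.WDiv.K654.PolyGen
import Groth.Agent.S1692

/-!
# Divisor classes along morphisms which locally on the base are affine spaces
-/

set_option autoImplicit false
universe u

open CategoryTheory AlgebraicGeometry TopologicalSpace IsLocalRing

namespace K654.PolyMap

open K654.OrdMap K654.OrdAff

theorem coheight_generic {X : Scheme.{u}} [IsIntegral X] :
    Order.coheight (genericPoint X) = 0 := by
  rw [Order.coheight_eq_zero]
  intro y _
  exact genericPoint_specializes y

/-- The support of a principal divisor on a Noetherian integral scheme is finite. -/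
theorem finite_ord {X : Scheme.{u}} [IsIntegral X] [IsLocallyNoetherian X] [CompactSpace X]
    (f : X.functionField) (hf : f ≠ 0) : {x : X | Scheme.ord f x ≠ 0}.Finite := by
  have h1 := Groth.Agent.S1692.result X f hf
  have h2 := h1.finite_nonempty_of_compact
  have h3 : (Set.univ : Set {ξ : ↥X // Order.coheight ξ = 1 ∧ Scheme.ord f ξ ≠ 0}).Finite :=
    h2.subset fun ξ _ => ⟨ξ.1, subset_closure rfl⟩
  have h4 := h3.image Subtype.val
  refine h4.subset fun x hx => ?_
  have hx1 : Order.coheight x = 1 := by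
    by_contra hx1
    exact hx (Scheme.ord_eq_zero_of_coheight_neq_one hx1 f)
  exact ⟨⟨x, hx1, hx⟩, trivial, rfl⟩

section

variable {σ : Type u} {X Y : Scheme.{u}} [IsIntegral X] [IsIntegral Y] {q : Y ⟶ X}
  (hq : IsPoly σ q) [IsLocallyNoetherian X] [IsLocallyNoetherian Y]
  (hR1 : ∀ x : X, Order.coheight x = 1 → IsDiscreteValuationRing (X.presheaf.stalk x))

include hq hR1

/-- Injectivity on divisor classes. -/
theorem IsPoly.principal_of_pullback (D : X → ℤ) (hD : ∀ x, Order.coheight x ≠ 1 → D x = 0)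
    (g : Y.functionField) (hg : g ≠ 0)
    (h : ∀ y : Y, Order.coheight y = 1 → Scheme.ord g y = D (q y)) :
    ∃ f : X.functionField, f ≠ 0 ∧ (ff q hq.generic).hom f = g ∧
      ∀ x : X, Order.coheight x = 1 → Scheme.ord f x = D x := by
  obtain ⟨f, hf0, hfg⟩ := hq.exists_ff_eq g hg fun y hy hy1 => by
    rw [h y hy1, hy]
    exact hD _ (by rw [coheight_generic]; exact zero_ne_one)
  refine ⟨f, hf0, hfg, fun x hx => ?_⟩
  obtain ⟨y, hy, hy1⟩ := hq.exists_point x hx (hR1 x hx)
  subst hy
  rw [← h y hy1, ← hfg, hq.ord_ff y hy1 hx (hR1 _ hx)]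

/-- Surjectivity on divisor classes. -/
theorem IsPoly.linEquiv_pullback [CompactSpace Y] (D' : Y → ℤ)
    (hfin : {y | D' y ≠ 0}.Finite) :
    ∃ (D : X → ℤ) (g : Y.functionField), (∀ x, Order.coheight x ≠ 1 → D x = 0) ∧
      {x | D x ≠ 0}.Finite ∧ g ≠ 0 ∧
      ∀ y : Y, Order.coheight y = 1 → D' y = D (q y) + Scheme.ord g y := by
  classical
  obtain ⟨g, hg0, hg⟩ := hq.exists_of_divisor_generic D' hfin
  have hex : ∀ x : X, ∃ y : Y, Order.coheight x = 1 → (q y = x ∧ Order.coheight y = 1) := by
    intro x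
    by_cases hx : Order.coheight x = 1
    · obtain ⟨y, hy⟩ := hq.exists_point x hx (hR1 x hx)
      exact ⟨y, fun _ => hy⟩
    · exact ⟨genericPoint Y, fun h => absurd h hx⟩
  choose y hy using hex
  refine ⟨fun x => if Order.coheight x = 1 then D' (y x) - Scheme.ord g (y x) else 0, g,
    fun x hx => if_neg hx, ?_, hg0, ?_⟩
  · have h1 := (hfin.union (finite_ord g hg0)).image q
    refine h1.subset fun x hx => ?_
    have hx' : ¬ ((if Order.coheight x = 1 then D' (y x) - Scheme.ord g (y x) else 0) = 0) := hx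
    by_cases hx1 : Order.coheight x = 1
    · rw [if_pos hx1] at hx'
      refine ⟨y x, ?_, (hy x hx1).1⟩
      by_contra hn
      simp only [Set.mem_union, Set.mem_ofPred_eq, not_or, not_not] at hn
      exact hx' (by rw [hn.1, hn.2, sub_zero])
    · exact absurd (if_neg hx1) hx'
  · intro z hz1
    obtain ⟨U, hU, hzU⟩ : ∃ U : X.Opens, IsAffineOpen U ∧ q z ∈ U := by
      obtain ⟨_, ⟨V, hV, rfl⟩, hxV, -⟩ :=
        X.isBasis_affineOpens.exists_subset_of_mem_open (Set.mem_univ (q z)) isOpen_univ
      exact ⟨V, hV, hxV⟩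
    rcases hq.dichotomy hU z hzU hz1 with h | ⟨h, -⟩
    · have h0 : Order.coheight (q z) ≠ 1 := by
        rw [h, coheight_generic]
        exact zero_ne_one
      change D' z = (if Order.coheight (q z) = 1 then _ else 0) + _
      rw [if_neg h0, hg z h hz1, zero_add]
    · have h2 : y (q z) = z :=
        hq.unique _ _ (hy _ h).2 hz1 (hy _ h).1 (by rw [(hy _ h).1]; exact h)
      change D' z = (if Order.coheight (q z) = 1 then _ else 0) + _
      rw [if_pos h, h2]
      ring

end

end K654.PolyMap
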