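import Groth.Agent.WDiv.K654.OrdFracMap
import Mathlib.AlgebraicGeometry.OrderOfVanishing

/-!
# Orders of rational functions along dominant morphisms
-/

set_option autoImplicit false
universe u

open CategoryTheory AlgebraicGeometry TopologicalSpace IsLocalRing

namespace K654.OrdMap

section ff

variable {X Y : Scheme.{u}} [IsIntegral X] [IsIntegral Y] (f : Y ⟶ X)
  (hf : f (genericPoint Y) = genericPoint X)

/-- The map on function fields of a dominant morphism. -/
noncomputable def ff : X.functionField ⟶ Y.functionField :=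
  X.presheaf.stalkSpecializes (specializes_of_eq hf) ≫ f.stalkMap (genericPoint Y)

/-- Compatibility with the local rings. -/
theorem ff_comp (y : Y) :
    X.presheaf.stalkSpecializes (genericPoint_specializes (f y)) ≫ ff f hf =
      f.stalkMap y ≫ Y.presheaf.stalkSpecializes (genericPoint_specializes y) := by
  rw [ff, ← Category.assoc, TopCat.Presheaf.stalkSpecializes_comp]
  exact Scheme.Hom.stalkSpecializes_stalkMap f (genericPoint Y) y (genericPoint_specializes y)

theorem ff_algebraMap (y : Y) (a : X.presheaf.stalk (f y)) :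
    (ff f hf).hom (algebraMap (X.presheaf.stalk (f y)) X.functionField a) =
      algebraMap (Y.presheaf.stalk y) Y.functionField ((f.stalkMap y).hom a) :=
  congrArg (fun φ : X.presheaf.stalk (f y) ⟶ Y.functionField => φ.hom a) (ff_comp f hf y)

theorem ff_germ (U : X.Opens) [Nonempty U] [Nonempty (f ⁻¹ᵁ U)] (a : Γ(X, U)) :
    (ff f hf).hom ((X.germToFunctionField U).hom a) =
      (Y.germToFunctionField (f ⁻¹ᵁ U)).hom ((f.app U).hom a) := by
  have hy : genericPoint Y ∈ f ⁻¹ᵁ U :=
    ((genericPoint_spec Y).mem_open_set_iff (f ⁻¹ᵁ U).isOpen).mpr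
      (by simpa using ‹Nonempty (f ⁻¹ᵁ U)›)
  have h1 : X.germToFunctionField U ≫ ff f hf = f.app U ≫ Y.germToFunctionField (f ⁻¹ᵁ U) := by
    rw [ff, Scheme.germToFunctionField, TopCat.Presheaf.germ_stalkSpecializes_assoc]
    exact Scheme.Hom.germ_stalkMap f U (genericPoint Y) hy
  exact congrArg (fun φ : Γ(X, U) ⟶ Y.functionField => φ.hom a) h1

theorem ff_injective : Function.Injective (ff f hf).hom := (ff f hf).hom.injective

end ff

section coheight

variable {X Y : Scheme.{u}} (f : Y ⟶ X)

theorem coheight_eq_of_bijective (y : Y) (hb : Function.Bijective (f.stalkMap y).hom) :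
    Order.coheight y = Order.coheight (f y) := by
  have h1 := ringKrullDim_stalk_eq_coheight y
  have h2 := ringKrullDim_stalk_eq_coheight (f y)
  rw [← ringKrullDim_eq_of_ringEquiv (RingEquiv.ofBijective _ hb), h2] at h1
  exact_mod_cast h1.symm

end coheight

section ord

variable {X Y : Scheme.{u}} [IsIntegral X] [IsIntegral Y] [IsLocallyNoetherian X]
  [IsLocallyNoetherian Y] (f : Y ⟶ X) (hf : f (genericPoint Y) = genericPoint X)

theorem ord_congr {x : X} {y : Y} (hxy : Order.coheight x = 1 ↔ Order.coheight y = 1)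
    (g : X.functionField) (h : Y.functionField) (hgh : g = 0 ↔ h = 0)
    (H : ∀ (hx : Order.coheight x = 1) (hy : Order.coheight y = 1),
      Scheme.ordHom x hx g = Scheme.ordHom y hy h) :
    Scheme.ord g x = Scheme.ord h y := by
  by_cases hx : Order.coheight x = 1
  · have hy := hxy.mp hx
    rw [Scheme.ord_eq_ordHom_of_coheight_eq_one hx, Scheme.ord_eq_ordHom_of_coheight_eq_one hy,
      H hx hy]
  · have hy : ¬ Order.coheight y = 1 := fun h => hx (hxy.mpr h)
    rw [Scheme.ord_eq_zero_of_coheight_neq_one hx, Scheme.ord_eq_zero_of_coheight_neq_one hy]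

/-- Orders along a morphism which is bijective on the stalks at `y`. -/
theorem ord_ff_of_bijective (y : Y) (hb : Function.Bijective (f.stalkMap y).hom)
    (g : X.functionField) : Scheme.ord ((ff f hf).hom g) y = Scheme.ord g (f y) := by
  symm
  have hc := coheight_eq_of_bijective f y hb
  refine ord_congr (by rw [hc]) _ _ (map_eq_zero _).symm fun hx hy => ?_
  have h1 : Ring.KrullDimLE 1 (X.presheaf.stalk (f y)) := krullDimLE_of_coheight_le hx.le
  have h2 : Ring.KrullDimLE 1 (Y.presheaf.stalk y) := krullDimLE_of_coheight_le hy.le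
  exact (OrdFracMap.ordFrac_map_of_bijective (f.stalkMap y).hom hb (ff f hf).hom
    (ff_algebraMap f hf y) g).symm

theorem ordHom_eq_ordFrac (y : Y) (hy : Order.coheight y = 1)
    [h2 : Ring.KrullDimLE 1 (Y.presheaf.stalk y)] (h : Y.functionField) :
    Scheme.ordHom y hy h = Ring.ordFrac (Y.presheaf.stalk y) h := rfl

/-- Orders along a morphism which is unramified at the codimension one point `y`. -/
theorem ord_ff_of_unramified (y : Y) [IsDiscreteValuationRing (X.presheaf.stalk (f y))]
    [IsDiscreteValuationRing (Y.presheaf.stalk y)] (hx : Order.coheight (f y) = 1)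
    (hy : Order.coheight y = 1)
    (hb : (maximalIdeal (X.presheaf.stalk (f y))).map (f.stalkMap y).hom =
      maximalIdeal (Y.presheaf.stalk y))
    (g : X.functionField) : Scheme.ord ((ff f hf).hom g) y = Scheme.ord g (f y) := by
  symm
  refine ord_congr (by simp only [hx, hy]) _ _ (map_eq_zero _).symm fun hx hy => ?_
  rw [ordHom_eq_ordFrac, ordHom_eq_ordFrac]
  exact (OrdFracMap.ordFrac_map (f.stalkMap y).hom hb (ff f hf).hom
    (ff_algebraMap f hf y) g).symm

end ord

end K654.OrdMap
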