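import Mathlib.RingTheory.Ideal.Height
import Mathlib.RingTheory.Polynomial.Basic
import Mathlib.RingTheory.Polynomial.Quotient
import Mathlib.RingTheory.MvPolynomial.Basic
import Mathlib.RingTheory.DiscreteValuationRing.TFAE
import Mathlib.RingTheory.Ideal.KrullsHeightTheorem

/-!
# Height one primes of an algebra in which extensions of primes are prime
-/

set_option autoImplicit false
universe u v

open Polynomial

namespace K654.PExt

/-- Extensions of primes along `φ` are prime and contract to the given prime. -/
structure PrimeExt {A B : Type*} [CommRing A] [CommRing B] (φ : A →+* B) : Prop where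
  isPrime_map : ∀ p : Ideal A, p.IsPrime → (p.map φ).IsPrime
  comap_map : ∀ p : Ideal A, p.IsPrime → (p.map φ).comap φ = p

/-- In a domain, a nonzero prime contained in a prime of height one equals it. -/
lemma eq_of_le_of_height_one {B : Type*} [CommRing B] [IsDomain B] {I P : Ideal B} [I.IsPrime]
    [P.IsPrime] (hP : P.height = 1) (hI : I ≠ ⊥) (hIP : I ≤ P) : I = P := by
  by_contra hne'
  have hlt : I < P := lt_of_le_of_ne hIP hne'
  have h1 := Ideal.height_add_one_le_of_lt_of_isPrime hlt
  have h2 : 1 ≤ I.height := by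
    rw [Order.one_le_iff_ne_zero]
    exact fun h => hI (Ideal.height_eq_zero_iff_eq_bot.mp h)
  rw [hP] at h1
  have h3 : (1 : ℕ∞) + 1 ≤ 1 := le_trans (add_le_add_left h2 1) h1
  exact absurd h3 (by decide)

theorem PrimeExt.dichotomy {A B : Type*} [CommRing A] [IsDomain A] [CommRing B] [IsDomain B]
    {φ : A →+* B} (hφ : PrimeExt φ) (hinj : Function.Injective φ) (P : Ideal B) [P.IsPrime]
    (hP : P.height = 1) :
    P.comap φ = ⊥ ∨ ((P.comap φ).height = 1 ∧ P = (P.comap φ).map φ) := by
  by_cases hp : P.comap φ = ⊥
  · exact Or.inl hp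
  right
  have hpp : (P.comap φ).IsPrime := Ideal.comap_isPrime _ _
  have hle : (P.comap φ).map φ ≤ P := Ideal.map_comap_le
  have := hφ.isPrime_map _ hpp
  have hne : (P.comap φ).map φ ≠ ⊥ := fun h =>
    hp ((Ideal.map_eq_bot_iff_of_injective hinj).mp h)
  have heq : (P.comap φ).map φ = P := eq_of_le_of_height_one hP hne hle
  refine ⟨le_antisymm ?_ ?_, heq.symm⟩
  · have : (P.comap φ).height ≤ ((1 : ℕ) : ℕ∞) := by
      refine Ideal.height_le_iff.mpr fun q hq hlt => ?_
      have := hφ.isPrime_map _ hq
      by_cases hq0 : q = ⊥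
      · subst hq0
        rw [Ideal.height_bot]
        norm_num
      · exfalso
        have hq1 : q.map φ ≠ ⊥ := fun h => hq0 ((Ideal.map_eq_bot_iff_of_injective hinj).mp h)
        have h1 : q.map φ = P :=
          eq_of_le_of_height_one hP hq1 ((Ideal.map_mono hlt.le).trans hle)
        have h2 : q.map φ = (P.comap φ).map φ := h1.trans heq.symm
        have h3 : q = P.comap φ := by
          have := congrArg (Ideal.comap φ) h2
          rwa [hφ.comap_map q hq, hφ.comap_map _ hpp] at this
        exact hlt.ne h3
    simpa using this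
  · rw [Order.one_le_iff_ne_zero]
    exact fun h => hp (Ideal.height_eq_zero_iff_eq_bot.mp h)

theorem polynomial (A : Type*) [CommRing A] : PrimeExt (C : A →+* A[X]) where
  isPrime_map p hp := Ideal.isPrime_map_C_of_isPrime
  comap_map p hp := by
    refine le_antisymm (fun a ha => ?_) Ideal.le_comap_map
    rw [Ideal.mem_comap, Ideal.mem_map_C_iff] at ha
    simpa using ha 0

theorem mvPolynomial (σ : Type*) (A : Type*) [CommRing A] :
    PrimeExt (MvPolynomial.C : A →+* MvPolynomial σ A) where
  isPrime_map p hp := by
    have h1 : IsDomain (MvPolynomial σ (A ⧸ p)) := inferInstance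
    rw [← Ideal.Quotient.isDomain_iff_prime]
    exact (MvPolynomial.quotientEquivQuotientMvPolynomial (σ := σ) p).symm.toRingEquiv.isDomain _
  comap_map p hp := by
    refine le_antisymm (fun a ha => ?_) Ideal.le_comap_map
    rw [Ideal.mem_comap, MvPolynomial.mem_map_C_iff] at ha
    simpa using ha 0

theorem PrimeExt.comp_equiv {A B C : Type*} [CommRing A] [CommRing B] [CommRing C]
    {φ : A →+* B} (hφ : PrimeExt φ) (e : B ≃+* C) : PrimeExt ((e : B →+* C).comp φ) where
  isPrime_map p hp := by
    have := hφ.isPrime_map p hp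
    rw [← Ideal.map_map]
    exact Ideal.map_isPrime_of_equiv e
  comap_map p hp := by
    rw [← Ideal.map_map, ← Ideal.comap_comap]
    have h1 : (Ideal.map (e : B →+* C) (p.map φ)).comap (e : B →+* C) = p.map φ :=
      Ideal.comap_map_of_bijective _ e.bijective
    rw [h1, hφ.comap_map p hp]

end K654.PExt
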