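import Groth.Agent.WDiv.K654.Gen
import Mathlib.RingTheory.Polynomial.UniqueFactorization
import Mathlib.RingTheory.Polynomial.Content
import Mathlib.RingTheory.Localization.Away.Lemmas

/-!
# Regularity in codimension one of polynomial rings
-/

set_option autoImplicit false
universe u v

open Polynomial IsLocalRing

namespace K654.R1Poly

open K654.PExt K654.Gen

/-- A height one prime which survives in a factorial localization is locally principal. -/
theorem exists_isGen_of_ufd {R R' : Type*} [CommRing R] [CommRing R'] [IsDomain R']
    [UniqueFactorizationMonoid R'] [Algebra R R'] (M : Submonoid R) [IsLocalization M R']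
    (P : Ideal R) [P.IsPrime] (hP : P.height = 1) (hM : Disjoint (M : Set R) P) :
    ∃ t : R, IsGen P t := by
  have h1 : (P.map (algebraMap R R')).IsPrime :=
    IsLocalization.isPrime_of_isPrime_disjoint M R' P ‹_› hM
  have h2 : (P.map (algebraMap R R')).height = 1 := by
    rw [IsLocalization.height_map_of_disjoint M P hM, hP]
  obtain ⟨t, _, ht⟩ := exists_span_of_ufd (P.map (algebraMap R R')) h2
  exact exists_isGen_of_isLocalization M P hM t ht

/-- Local generators of height one primes of a polynomial like extension. -/
theorem exists_isGen {A B B' : Type*} [CommRing A] [IsDomain A] [CommRing B] [IsDomain B]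
    [CommRing B'] [IsDomain B'] [UniqueFactorizationMonoid B'] [Algebra B B']
    {φ : A →+* B} (hφ : PrimeExt φ) (hinj : Function.Injective φ)
    [IsLocalization ((nonZeroDivisors A).map φ) B']
    (hR1 : ∀ (p : Ideal A) [p.IsPrime], p.height = 1 → ∃ t : A, IsGen p t)
    (P : Ideal B) [P.IsPrime] (hP : P.height = 1) : ∃ t : B, IsGen P t := by
  rcases hφ.dichotomy hinj P hP with h | ⟨h1, h2⟩
  · refine exists_isGen_of_ufd (R' := B') ((nonZeroDivisors A).map φ) P hP ?_
    rw [Set.disjoint_left]
    rintro _ ⟨a, ha, rfl⟩ hP'
    have h3 : a ∈ P.comap φ := hP'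
    rw [h, Ideal.mem_bot] at h3
    exact nonZeroDivisors.ne_zero ha h3
  · have : (P.comap φ).IsPrime := Ideal.comap_isPrime _ _
    obtain ⟨t, ht⟩ := hR1 (P.comap φ) h1
    have h3 := ht.map φ (by rw [← h2])
    rw [← h2] at h3
    exact ⟨_, h3⟩

attribute [local instance] Polynomial.algebra Polynomial.isLocalization in
theorem isDVR_polynomial (A : Type u) [CommRing A] [IsDomain A] [IsNoetherianRing A]
    (hR1 : ∀ (p : Ideal A) [p.IsPrime], p.height = 1 →
      IsDiscreteValuationRing (Localization.AtPrime p))
    (P : Ideal A[X]) [P.IsPrime] (hP : P.height = 1) :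
    IsDiscreteValuationRing (Localization.AtPrime P) := by
  obtain ⟨t, ht⟩ := exists_isGen (B' := (FractionRing A)[X]) (polynomial A) C_injective
    (fun p _ hp => by
      have := hR1 p hp
      exact exists_isGen_of_isDVR (S := Localization.AtPrime p)) P hP
  exact ht.isDVR (Ideal.ne_bot_of_height_eq_one hP)

end K654.R1Poly
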