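import Groth.Agent.WDiv.K654.OrdAff

/-!
# Orders of rational functions and open subschemes
-/

set_option autoImplicit false
universe u

open CategoryTheory AlgebraicGeometry TopologicalSpace IsLocalRing

namespace K654.OrdOpen

open K654.OrdMap K654.OrdAff

theorem ff_bijective_of_stalk {X Y : Scheme.{u}} [IsIntegral X] [IsIntegral Y] (f : Y ⟶ X)
    (hf : f (genericPoint Y) = genericPoint X)
    (h : Function.Bijective (f.stalkMap (genericPoint Y)).hom) :
    Function.Bijective (ff f hf).hom := by
  have h1 : IsIso (X.presheaf.stalkSpecializes (specializes_of_eq hf)) :=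
    inferInstanceAs (IsIso (X.presheaf.stalkCongr (.of_eq hf)).inv)
  have h2 : IsIso (f.stalkMap (genericPoint Y)) := (ConcreteCategory.isIso_iff_bijective _).mpr h
  have h3 : IsIso (ff f hf) := by
    unfold ff
    infer_instance
  exact (ConcreteCategory.isIso_iff_bijective (ff f hf)).mp h3

theorem stalkMap_bijective {X Y : Scheme.{u}} (f : Y ⟶ X) [IsOpenImmersion f] (y : Y) :
    Function.Bijective (f.stalkMap y).hom :=
  (ConcreteCategory.isIso_iff_bijective (f.stalkMap y)).mp inferInstance

section

variable {X Y : Scheme.{u}} [IsIntegral X] [IsIntegral Y] (f : Y ⟶ X) [IsOpenImmersion f]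

theorem ff_bijective : Function.Bijective (ff f (genericPoint_eq_of_isOpenImmersion f)).hom :=
  ff_bijective_of_stalk f _ (stalkMap_bijective f _)

variable [IsLocallyNoetherian X] [IsLocallyNoetherian Y]

theorem ord_ff (y : Y) (g : X.functionField) :
    Scheme.ord ((ff f (genericPoint_eq_of_isOpenImmersion f)).hom g) y = Scheme.ord g (f y) :=
  ord_ff_of_bijective f _ y (stalkMap_bijective f y) g

end

section Open

variable {X : Scheme.{u}} [IsIntegral X] [IsLocallyNoetherian X] (U : X.Opens) [Nonempty U]

theorem exists_of_open (g : (U : Scheme.{u}).functionField) (hg : g ≠ 0) :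
    ∃ f : X.functionField, f ≠ 0 ∧ ∀ u : (U : Scheme.{u}), Scheme.ord f u.1 = Scheme.ord g u := by
  obtain ⟨f, hf⟩ := (ff_bijective U.ι).2 g
  refine ⟨f, ?_, fun u => ?_⟩
  · rintro rfl
    exact hg (by rw [← hf, map_zero])
  · rw [← hf, ord_ff]
    rfl

theorem exists_on_open (f : X.functionField) (hf : f ≠ 0) :
    ∃ g : (U : Scheme.{u}).functionField, g ≠ 0 ∧
      ∀ u : (U : Scheme.{u}), Scheme.ord g u = Scheme.ord f u.1 :=
  ⟨(ff U.ι (genericPoint_eq_of_isOpenImmersion U.ι)).hom f,
    (map_ne_zero_iff _ (ff_bijective U.ι).1).mpr hf, fun u => ord_ff U.ι u f⟩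

end Open

theorem coheight_open {X : Scheme.{u}} (U : X.Opens) (u : (U : Scheme.{u})) :
    Order.coheight u = Order.coheight u.1 :=
  (coheight_eq_of_isOpenImmersion U.ι).symm

theorem eq_of_specializes {X : Scheme.{u}} {x z : X} (h : z ⤳ x)
    (hz : Order.coheight z = 1) (hx : Order.coheight x = 1) : x = z := by
  by_contra hne
  have hle : x ≤ z := h
  have hlt : x < z := lt_of_le_not_ge hle fun h' => hne (Specializes.antisymm h' h).eq
  have h1 := Order.coheight_add_one_le hlt
  rw [hz, hx] at h1
  exact absurd h1 (by decide)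

end K654.OrdOpen
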