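import Groth.Agent.WDiv.K654.ProjDiv

/-!
# Divisor classes of projective space over an affine scheme: existence and uniqueness of the degree
-/

set_option autoImplicit false
universe u

open CategoryTheory AlgebraicGeometry TopologicalSpace IsLocalRing CategoryTheory.Limits

namespace K654.ProjDiv

open K654.OrdMap K654.OrdAff K654.PolyMap

variable {A : Type u} [CommRing A] {n : ℕ}

theorem linEquiv [IsDomain A] [IsNoetherianRing A] [IsIntegral (CohB1.ProjSpace n A)]
    [IsLocallyNoetherian (CohB1.ProjSpace n A)] [IsIntegral (Spec (CommRingCat.of A))]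
    (hR1 : ∀ x : ↥(Spec (CommRingCat.of A)), Order.coheight x = 1 →
      IsDiscreteValuationRing ↑((Spec (CommRingCat.of A)).presheaf.stalk x))
    (H : ↥(CohB1.ProjSpace n A))
    (hH : H.asHomogeneousIdeal.toIdeal =
      Ideal.span {(MvPolynomial.X 0 : MvPolynomial (Fin (n + 1)) A)})
    (D' : ↥(CohB1.ProjSpace n A) → ℤ) (hfin : {y | D' y ≠ 0}.Finite) :
    ∃! d : ℤ, ∃ (D : ↥(Spec (CommRingCat.of A)) → ℤ) (g : ↑(CohB1.ProjSpace n A).functionField),
      (∀ x, Order.coheight x ≠ 1 → D x = 0) ∧ {x | D x ≠ 0}.Finite ∧ g ≠ 0 ∧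
      D' H = d + D (CohB1.ProjSpace.toSpec n A H) + Scheme.ord g H ∧
      ∀ y, y ≠ H → Order.coheight y = 1 →
        D' y = D (CohB1.ProjSpace.toSpec n A y) + Scheme.ord g y := by
  have hdom : IsDomain (CommRingCat.of A) := ‹IsDomain A›
  have hno : IsNoetherianRing (CommRingCat.of A) := ‹IsNoetherianRing A›
  have hq := isPoly_affineSpace (ULift.{u} (Fin n)) (Spec (CommRingCat.of A))
  have hln : IsLocallyNoetherian 𝔸(ULift.{u} (Fin n); Spec (CommRingCat.of A)) :=
    isLocallyNoetherian_of_isOpenImmersion (aff A n)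
  let j := aff A n
  have hjs : ∀ v, CohB1.ProjSpace.toSpec n A (j v) =
      (𝔸(ULift.{u} (Fin n); Spec (CommRingCat.of A)) ↘ Spec (CommRingCat.of A)) v := by
    intro v
    rw [← aff_toSpec A n]
    rfl
  have hfin' : {v | D' (j v) ≠ 0}.Finite :=
    Set.Finite.preimage (f := j) j.isOpenEmbedding.injective.injOn hfin
  obtain ⟨D, g', hD, hDfin, hg', hmain⟩ := hq.linEquiv_pullback hR1 (fun v => D' (j v)) hfin'
  obtain ⟨g, hg⟩ := (OrdOpen.ff_bijective j).2 g'
  have hg0 : g ≠ 0 := by
    rintro rfl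
    exact hg' (by rw [← hg, map_zero])
  refine ⟨D' H - D (CohB1.ProjSpace.toSpec n A H) - Scheme.ord g H,
    ⟨D, g, hD, hDfin, hg0, by ring, fun y hy hy1 => ?_⟩, ?_⟩
  · obtain ⟨v, hv⟩ := mem_range_of_ne A n H hH y hy hy1
    have hv1 : Order.coheight v = 1 := by
      rw [← hy1, ← hv]
      exact (coheight_eq_of_isOpenImmersion j).symm
    have h1 := hmain v hv1
    rw [← hg, OrdOpen.ord_ff j v g] at h1
    rw [← hv]
    exact h1.trans (by rw [← hjs v])
  · rintro d ⟨D₂, g₂, hD₂, -, hg₂, h₁, h₂⟩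
    have key := principal hR1 H hH
      (d - (D' H - D (CohB1.ProjSpace.toSpec n A H) - Scheme.ord g H)) (fun x => D₂ x - D x)
      (fun x hx => by rw [hD x hx, hD₂ x hx, sub_zero]) (g / g₂) (div_ne_zero hg0 hg₂)
      (by
        rw [ord_div hg0 hg₂, h₁]
        ring) (fun y hy hy1 => by
        obtain ⟨v, hv⟩ := mem_range_of_ne A n H hH y hy hy1
        have hv1 : Order.coheight v = 1 := by
          rw [← hy1, ← hv]
          exact (coheight_eq_of_isOpenImmersion j).symm
        have h3 := hmain v hv1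
        rw [← hg, OrdOpen.ord_ff j v g, ← hjs v] at h3
        have h4 := h₂ y hy hy1
        have hv' : j v = y := hv
        rw [hv'] at h3
        rw [ord_div hg0 hg₂]
        have h5 : D' y = D (CohB1.ProjSpace.toSpec n A y) + Scheme.ord g y := h3
        linarith)
    have h3 := key.1
    linarith

end K654.ProjDiv
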