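import Groth.Agent.WDiv.K654.PolyMain
import Groth.Agent.WDiv.K654.PolyCrit
import Groth.Agent.WDiv.K654.FfTrans
import Groth.Agent.Ega3B.ClopenProj
import Groth.Agent.Sga5.ProjSmooth

/-!
# Divisor classes of projective space over an affine scheme
-/

set_option autoImplicit false
universe u

open CategoryTheory AlgebraicGeometry TopologicalSpace IsLocalRing CategoryTheory.Limits

namespace K654.ProjDiv

open K654.OrdMap K654.OrdAff K654.PolyMap

variable (A : Type u) [CommRing A] (n : ℕ)

/-- The affine chart `X_0 ≠ 0` of projective space as an affine space. -/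
noncomputable def aff : 𝔸(ULift.{u} (Fin n); Spec (CommRingCat.of A)) ⟶ CohB1.ProjSpace n A :=
  (AffineSpace.SpecIso (ULift.{u} (Fin n)) (CommRingCat.of A)).hom ≫
    Spec.map (CommRingCat.ofHom
      (MvPolynomial.renameEquiv A (Equiv.ulift.{u} (α := Fin n))).symm.toRingEquiv.toRingHom) ≫
    Groth.Agent.Sga5.ProjSmooth.chart n A 0

instance isIso_ren : IsIso (Spec.map (CommRingCat.ofHom
      (MvPolynomial.renameEquiv A (Equiv.ulift.{u} (α := Fin n))).symm.toRingEquiv.toRingHom)) := by
  have : IsIso (CommRingCat.ofHom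
      (MvPolynomial.renameEquiv A (Equiv.ulift.{u} (α := Fin n))).symm.toRingEquiv.toRingHom) :=
    (ConcreteCategory.isIso_iff_bijective _).mpr
      (MvPolynomial.renameEquiv A (Equiv.ulift.{u} (α := Fin n))).symm.bijective
  infer_instance

instance isOpenImmersion_aff : IsOpenImmersion (aff A n) := by
  unfold aff
  infer_instance

theorem aff_toSpec : aff A n ≫ CohB1.ProjSpace.toSpec n A =
    𝔸(ULift.{u} (Fin n); Spec (CommRingCat.of A)) ↘ Spec (CommRingCat.of A) := by
  rw [aff, Category.assoc, Category.assoc, Groth.Agent.Sga5.ProjSmooth.chart_toSpec,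
    ← Spec.map_comp]
  have h1 : CommRingCat.ofHom (MvPolynomial.C : A →+* MvPolynomial (Fin n) A) ≫
      CommRingCat.ofHom
        (MvPolynomial.renameEquiv A (Equiv.ulift.{u} (α := Fin n))).symm.toRingEquiv.toRingHom =
      CommRingCat.ofHom (MvPolynomial.C : A →+* MvPolynomial (ULift.{u} (Fin n)) A) := by
    refine CommRingCat.hom_ext (RingHom.ext fun a => ?_)
    exact (MvPolynomial.renameEquiv A (Equiv.ulift.{u} (α := Fin n))).symm.commutes a
  rw [h1]
  have h2 := AffineSpace.SpecIso_inv_over (n := ULift.{u} (Fin n)) (CommRingCat.of A)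
  exact (Iso.inv_comp_eq _).mp h2 |>.symm

theorem mem_range_aff (p : CohB1.ProjSpace n A) : p ∈ Set.range (aff A n) ↔
    (MvPolynomial.X 0 : MvPolynomial (Fin (n + 1)) A) ∉ p.asHomogeneousIdeal := by
  have h1 := Groth.Agent.Sga5.ProjSmooth.opensRange_chart n A 0
  have h2 : p ∈ Set.range (Groth.Agent.Sga5.ProjSmooth.chart n A 0) ↔
      (MvPolynomial.X 0 : MvPolynomial (Fin (n + 1)) A) ∉ p.asHomogeneousIdeal := by
    have h3 : p ∈ (Groth.Agent.Sga5.ProjSmooth.chart n A 0).opensRange ↔
      (MvPolynomial.X 0 : MvPolynomial (Fin (n + 1)) A) ∉ p.asHomogeneousIdeal := by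
      rw [h1]
      rfl
    exact h3
  rw [← h2, aff, Scheme.Hom.comp_base, Scheme.Hom.comp_base, TopCat.coe_comp, TopCat.coe_comp,
    Set.range_comp, Set.range_eq_univ.mpr
      (AffineSpace.SpecIso (ULift.{u} (Fin n)) (CommRingCat.of A)).hom.surjective,
    Set.image_univ, Set.range_comp, Set.range_eq_univ.mpr (Spec.map (CommRingCat.ofHom
      (MvPolynomial.renameEquiv A
        (Equiv.ulift.{u} (α := Fin n))).symm.toRingEquiv.toRingHom)).surjective, Set.image_univ]

/-- The unique codimension one point outside the chart. -/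
theorem mem_range_of_ne [IsDomain A] [IsIntegral (CohB1.ProjSpace n A)]
    (H : ↥(CohB1.ProjSpace n A))
    (hH : H.asHomogeneousIdeal.toIdeal =
      Ideal.span {(MvPolynomial.X 0 : MvPolynomial (Fin (n + 1)) A)})
    (y : ↥(CohB1.ProjSpace n A)) (hy : y ≠ H) (hy1 : Order.coheight y = 1) :
    y ∈ Set.range (aff A n) := by
  rw [mem_range_aff]
  intro hX
  have hle : H.asHomogeneousIdeal ≤ y.asHomogeneousIdeal := by
    change H.asHomogeneousIdeal.toIdeal ≤ y.asHomogeneousIdeal.toIdeal
    rw [hH, Ideal.span_le, Set.singleton_subset_iff]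
    exact hX
  have hsp : H ⤳ y := by
    rw [specializes_iff_mem_closure]
    exact (ProjectiveSpectrum.le_iff_mem_closure (𝒜 := CohB1.polyGrading n A) H y).mp hle
  have hηH : H = genericPoint (CohB1.ProjSpace n A) := by
    have hlt : y < H := lt_of_le_not_ge hsp fun h' =>
      hy (Specializes.antisymm (show y ⤳ H from h') hsp).eq
    have h1 := Order.coheight_add_one_le hlt
    rw [hy1] at h1
    have h2 : Order.coheight H = 0 := by
      by_contra h0
      have h3 : 1 ≤ Order.coheight H := by rwa [Order.one_le_iff_ne_zero]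
      have h4 : (1 : ℕ∞) + 1 ≤ 1 := le_trans (add_le_add_left h3 1) h1
      exact absurd h4 (by decide)
    rw [Order.coheight_eq_zero] at h2
    have h5 : (genericPoint (CohB1.ProjSpace n A)) ≤ H := h2 (genericPoint_specializes H)
    exact (Specializes.antisymm (show H ⤳ genericPoint (CohB1.ProjSpace n A) from h5)
      (genericPoint_specializes H)).eq
  have h6 : aff A n (genericPoint _) = genericPoint (CohB1.ProjSpace n A) := by
    have : IsDomain (CommRingCat.of A) := ‹IsDomain A›
    exact genericPoint_eq_of_isOpenImmersion (aff A n)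
  have h7 : H ∈ Set.range (aff A n) := by
    rw [hηH, ← h6]
    exact ⟨_, rfl⟩
  rw [mem_range_aff] at h7
  apply h7
  change _ ∈ H.asHomogeneousIdeal.toIdeal
  rw [hH]
  exact Ideal.mem_span_singleton_self _

/-- The hyperplane at infinity dominates the base. -/
theorem toSpec_eq_generic [IsDomain A] [IsIntegral (Spec (CommRingCat.of A))]
    (H : ↥(CohB1.ProjSpace n A))
    (hH : H.asHomogeneousIdeal.toIdeal =
      Ideal.span {(MvPolynomial.X 0 : MvPolynomial (Fin (n + 1)) A)}) :
    CohB1.ProjSpace.toSpec n A H = genericPoint (Spec (CommRingCat.of A)) := by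
  have : IsDomain (CommRingCat.of A) := ‹IsDomain A›
  rw [genericPoint_eq_bot_of_affine]
  refine PrimeSpectrum.ext (le_antisymm (fun a ha => ?_) bot_le)
  have h1 := (Groth.Agent.Ega3B.ClopenProj.mem_toSpec_iff n H a).mp ha
  have h2 : (MvPolynomial.C a : MvPolynomial (Fin (n + 1)) A) ∈
      Ideal.span {(MvPolynomial.X 0 : MvPolynomial (Fin (n + 1)) A)} := by
    rw [← hH]
    exact h1
  rw [Ideal.mem_span_singleton] at h2
  obtain ⟨p, hp⟩ := h2
  have h3 := congrArg (MvPolynomial.eval (fun _ => (0 : A))) hp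
  simp only [MvPolynomial.eval_C, map_mul, MvPolynomial.eval_X, zero_mul] at h3
  exact h3

variable {A n} in
/-- Divisors on projective space which are principal. -/
theorem principal [IsDomain A] [IsNoetherianRing A] [IsIntegral (CohB1.ProjSpace n A)]
    [IsLocallyNoetherian (CohB1.ProjSpace n A)] [IsIntegral (Spec (CommRingCat.of A))]
    (hR1 : ∀ x : ↥(Spec (CommRingCat.of A)), Order.coheight x = 1 →
      IsDiscreteValuationRing ↑((Spec (CommRingCat.of A)).presheaf.stalk x))
    (H : ↥(CohB1.ProjSpace n A))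
    (hH : H.asHomogeneousIdeal.toIdeal =
      Ideal.span {(MvPolynomial.X 0 : MvPolynomial (Fin (n + 1)) A)})
    (d : ℤ) (D : ↥(Spec (CommRingCat.of A)) → ℤ) (hD : ∀ x, Order.coheight x ≠ 1 → D x = 0)
    (g : ↑(CohB1.ProjSpace n A).functionField) (hg : g ≠ 0)
    (hH' : Scheme.ord g H = d + D (CohB1.ProjSpace.toSpec n A H))
    (h : ∀ y, y ≠ H → Order.coheight y = 1 → Scheme.ord g y = D (CohB1.ProjSpace.toSpec n A y)) :
    d = 0 ∧ ∃ f : ↑(Spec (CommRingCat.of A)).functionField, f ≠ 0 ∧
      ∀ x : ↥(Spec (CommRingCat.of A)), Order.coheight x = 1 → Scheme.ord f x = D x := by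
  have hdom : IsDomain (CommRingCat.of A) := ‹IsDomain A›
  have hno : IsNoetherianRing (CommRingCat.of A) := ‹IsNoetherianRing A›
  have hq := isPoly_affineSpace (ULift.{u} (Fin n)) (Spec (CommRingCat.of A))
  have hln : IsLocallyNoetherian 𝔸(ULift.{u} (Fin n); Spec (CommRingCat.of A)) :=
    isLocallyNoetherian_of_isOpenImmersion (aff A n)
  let j := aff A n
  let g' := (ff j (genericPoint_eq_of_isOpenImmersion j)).hom g
  have hg' : g' ≠ 0 := (map_ne_zero_iff _ (OrdOpen.ff_bijective j).1).mpr hg
  have hjs : ∀ v, CohB1.ProjSpace.toSpec n A (j v) =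
      (𝔸(ULift.{u} (Fin n); Spec (CommRingCat.of A)) ↘ Spec (CommRingCat.of A)) v := by
    intro v
    rw [← aff_toSpec A n]
    rfl
  have hnH : ∀ v, j v ≠ H := by
    intro v hv
    have h1 : H ∈ Set.range (aff A n) := ⟨v, hv⟩
    rw [mem_range_aff] at h1
    apply h1
    change _ ∈ H.asHomogeneousIdeal.toIdeal
    rw [hH]
    exact Ideal.mem_span_singleton_self _
  obtain ⟨f, hf0, hfg, hf⟩ := hq.principal_of_pullback hR1 D hD g' hg' fun v hv1 => by
    rw [OrdOpen.ord_ff j v g, h (j v) (hnH v) (by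
      rw [← hv1]
      exact coheight_eq_of_isOpenImmersion j), hjs v]
  refine ⟨?_, f, hf0, hf⟩
  have hHη := toSpec_eq_generic A n H hH
  rw [hHη, hD _ (by rw [coheight_generic]; exact zero_ne_one), add_zero] at hH'
  rw [← hH']
  -- the rational function comes from the base
  have hgen : CohB1.ProjSpace.toSpec n A (genericPoint (CohB1.ProjSpace n A)) =
      genericPoint (Spec (CommRingCat.of A)) := by
    rw [← genericPoint_eq_of_isOpenImmersion j, hjs]
    exact hq.generic
  have hgf : (ff (CohB1.ProjSpace.toSpec n A) hgen).hom f = g := by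
    apply (OrdOpen.ff_bijective j).1
    change _ = g'
    rw [← hfg]
    exact FfTrans.ff_trans_apply (CohB1.ProjSpace.toSpec n A) hgen j
      (genericPoint_eq_of_isOpenImmersion j) _ hq.generic (aff_toSpec A n) f
  rw [← hgf]
  exact FfTrans.ord_ff_of_generic _ hgen H hHη f hf0

end K654.ProjDiv
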