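import Groth.Agent.WDiv.K654.OrdAff
import Mathlib.RingTheory.Localization.NumDen

/-!
# Divisors on a factorial affine open
-/

set_option autoImplicit false
universe u

open CategoryTheory AlgebraicGeometry TopologicalSpace IsLocalRing

namespace K654.OrdUFD

open K654.Gen K654.OrdMap K654.OrdAff K654.PExt

theorem isGen_span {R : Type*} [CommRing R] [Nontrivial R] (t : R)
    [h : (Ideal.span {t}).IsPrime] : IsGen (Ideal.span {t}) t :=
  ⟨Ideal.mem_span_singleton_self t, fun a ha =>
    ⟨1, fun h1 => h.ne_top ((Ideal.eq_top_iff_one _).mpr h1), by simpa using ha⟩⟩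

variable {X : Scheme.{u}} [IsIntegral X] [IsLocallyNoetherian X]

/-- The point of a prime element. -/
theorem exists_point_of_prime {U : X.Opens} (hU : IsAffineOpen U) (hη : genericPoint X ∈ U)
    (t : Γ(X, U)) (ht : Prime t) : ∃ (x : X) (hx : x ∈ U), Order.coheight x = 1 ∧
      pr hU x hx = Ideal.span {t} ∧ IsDiscreteValuationRing (X.presheaf.stalk x) ∧
      Scheme.ord (gK U (generic_mem hx) t) x = 1 := by
  have hne : Nonempty U := ⟨⟨_, hη⟩⟩
  have hnoeth : IsNoetherianRing Γ(X, U) := IsLocallyNoetherian.component_noetherian ⟨U, hU⟩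
  have hp : (Ideal.span {t}).IsPrime := (Ideal.span_singleton_prime ht.ne_zero).mpr ht
  obtain ⟨x, hx, hxt⟩ := exists_pr_eq hU (Ideal.span {t})
  have h1 : Order.coheight x = 1 := by
    rw [← height_pr hU x hx, hxt]
    exact Ideal.height_span_singleton_eq_one_of_mem_nonZeroDivisors
      (mem_nonZeroDivisors_of_ne_zero ht.ne_zero) ht.not_isUnit
  have h2 : IsGen (pr hU x hx) t := by
    rw [hxt]
    exact isGen_span t
  obtain ⟨h3, h4⟩ := isDVR_and_ord_of_isGen hU x hx h1 t h2
  exact ⟨x, hx, h1, hxt, h3, h4⟩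

/-- On a factorial affine open a rational function without zeros and poles is a unit. -/
theorem exists_unit_of_ord_eq_zero {U : X.Opens} (hU : IsAffineOpen U)
    [IsDomain Γ(X, U)] [UniqueFactorizationMonoid Γ(X, U)] (hη : genericPoint X ∈ U)
    (g : X.functionField) (hg : g ≠ 0)
    (h : ∀ x ∈ U, Order.coheight x = 1 → Scheme.ord g x = 0) :
    ∃ u : Γ(X, U), IsUnit u ∧ gK U hη u = g := by
  have hne : Nonempty U := ⟨⟨_, hη⟩⟩
  have hfrac : IsFractionRing Γ(X, U) X.functionField :=
    functionField_isFractionRing_of_isAffineOpen X U hU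
  have hinj := gK_injective U hη
  have key : ∀ (a b : Γ(X, U)), a ≠ 0 → b ≠ 0 → IsRelPrime a b →
      (∀ x ∈ U, Order.coheight x = 1 →
        Scheme.ord (gK U hη a) x = Scheme.ord (gK U hη b) x) → IsUnit a := by
    intro a b ha hb hab H
    by_contra hu
    obtain ⟨p, hp, hpa⟩ := WfDvdMonoid.exists_irreducible_factor hu ha
    have hpp : Prime p := hp.prime
    obtain ⟨x, hx, hx1, hxp, hdvr, hord⟩ := exists_point_of_prime hU hη p hpp
    have h1 : a ∈ pr hU x hx := by
      rw [hxp, Ideal.mem_span_singleton]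
      exact hpa
    have h2 : b ∉ pr hU x hx := by
      rw [hxp, Ideal.mem_span_singleton]
      intro hpb
      exact hp.not_isUnit (hab hpa hpb)
    have h3 := ord_pos_of_mem hU x hx hx1 a ha h1
    have h4 := ord_eq_zero_of_notMem hU x hx b h2
    have h5 := H x hx hx1
    omega
  obtain ⟨a, b, hrel, hab⟩ := IsFractionRing.exists_reduced_fraction (A := Γ(X, U))
    (K := X.functionField) g
  have hb0 : (b : Γ(X, U)) ≠ 0 := nonZeroDivisors.ne_zero b.2
  have hgb : gK U hη b ≠ 0 := fun h0 => hb0 (hinj (by rw [h0, map_zero]))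
  have hga : g * gK U hη b = gK U hη a := by
    have := IsLocalization.mk'_spec (X.functionField) a b
    rw [hab] at this
    exact this
  have ha0 : a ≠ 0 := by
    rintro rfl
    rw [map_zero, mul_eq_zero] at hga
    exact hga.elim hg hgb
  have hga0 : gK U hη a ≠ 0 := fun h0 => ha0 (hinj (by rw [h0, map_zero]))
  have H : ∀ x ∈ U, Order.coheight x = 1 →
      Scheme.ord (gK U hη a) x = Scheme.ord (gK U hη b) x := by
    intro x hx hx1
    rw [← hga, Scheme.ord_mul hg hgb, h x hx hx1, zero_add]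
  have hua := key a b ha0 hb0 hrel H
  have hub := key b a hb0 ha0 hrel.symm fun x hx hx1 => (H x hx hx1).symm
  obtain ⟨b', hb'⟩ := hub
  refine ⟨a * ↑b'⁻¹, hua.mul b'⁻¹.isUnit, ?_⟩
  have h6 : gK U hη (↑b'⁻¹) * gK U hη b = 1 := by
    rw [← map_mul, ← hb', Units.inv_mul, map_one]
  rw [map_mul, ← hga, mul_assoc, mul_comm (gK U hη b), h6, mul_one]

/-- On a factorial affine open every divisor is principal. -/
theorem exists_of_divisor {U : X.Opens} (hU : IsAffineOpen U)
    [IsDomain Γ(X, U)] [UniqueFactorizationMonoid Γ(X, U)] (hη : genericPoint X ∈ U)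
    (D : X → ℤ) (hfin : {x : X | x ∈ U ∧ Order.coheight x = 1 ∧ D x ≠ 0}.Finite) :
    ∃ g : X.functionField, g ≠ 0 ∧ ∀ x ∈ U, Order.coheight x = 1 → Scheme.ord g x = D x := by
  classical
  have hne : Nonempty U := ⟨⟨_, hη⟩⟩
  have hinj := gK_injective U hη
  have hex : ∀ x : X, ∃ t : X.functionField, t ≠ 0 ∧ (x ∈ U → Order.coheight x = 1 →
      Scheme.ord t x = 1 ∧ ∀ y ∈ U, Order.coheight y = 1 → y ≠ x → Scheme.ord t y = 0) := by
    intro x
    by_cases hx : x ∈ U ∧ Order.coheight x = 1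
    · obtain ⟨hxU, hx1⟩ := hx
      have hh : (pr hU x hxU).height = 1 := by rw [height_pr, hx1]
      obtain ⟨t, htp, hxt⟩ := exists_span_of_ufd (pr hU x hxU) hh
      have : (Ideal.span {t}).IsPrime := by rw [← hxt]; infer_instance
      have h0 : gK U hη t ≠ 0 := fun h0 => htp.ne_zero (hinj (by rw [h0, map_zero]))
      refine ⟨gK U hη t, h0, fun _ _ => ⟨?_, fun y hy hy1 hyx => ?_⟩⟩
      · refine (isDVR_and_ord_of_isGen hU x hxU hx1 t ?_).2
        rw [hxt]
        exact isGen_span t
      · refine ord_eq_zero_of_notMem hU y hy t fun hty => hyx ?_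
        have hle : pr hU x hxU ≤ pr hU y hy := by
          rw [hxt, Ideal.span_le, Set.singleton_subset_iff]
          exact hty
        have hyh : (pr hU y hy).height = 1 := by rw [height_pr, hy1]
        have := eq_of_le_of_height_one hyh (Ideal.ne_bot_of_height_eq_one hh) hle
        exact (pr_injective hU _ _ _ _ this).symm
    · exact ⟨1, one_ne_zero, fun h1 h2 => absurd ⟨h1, h2⟩ hx⟩
  choose t ht0 ht using hex
  let S := hfin.toFinset
  refine ⟨∏ x ∈ S, t x ^ D x, Finset.prod_ne_zero_iff.mpr fun x _ => zpow_ne_zero _ (ht0 x), ?_⟩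
  intro y hy hy1
  rw [ord_prod _ _ fun x _ => zpow_ne_zero _ (ht0 x)]
  simp_rw [ord_zpow (ht0 _)]
  by_cases hyS : y ∈ S
  · rw [Finset.sum_eq_single y]
    · rw [((ht y) hy hy1).1, mul_one]
    · intro x hx hxy
      have hx' : x ∈ U ∧ Order.coheight x = 1 ∧ D x ≠ 0 := by simpa [S] using hx
      rw [((ht x) hx'.1 hx'.2.1).2 y hy hy1 (Ne.symm hxy), mul_zero]
    · intro h
      exact absurd hyS h
  · have hD : D y = 0 := by
      by_contra hD
      exact hyS (by simpa [S] using ⟨hy, hy1, hD⟩)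
    rw [hD]
    refine Finset.sum_eq_zero fun x hx => ?_
    have hx' : x ∈ U ∧ Order.coheight x = 1 ∧ D x ≠ 0 := by simpa [S] using hx
    have hxy : y ≠ x := by
      rintro rfl
      exact hyS hx
    rw [((ht x) hx'.1 hx'.2.1).2 y hy hy1 hxy, mul_zero]

end K654.OrdUFD
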