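import Groth.Agent.WDiv.K654.PrimeExt
import Mathlib.RingTheory.Ideal.UFD
import Mathlib.RingTheory.Polynomial.UniqueFactorization
import Mathlib.RingTheory.MvPolynomial.Localization

/-!
# Local generators of height one primes
-/

set_option autoImplicit false
universe u v

open Polynomial IsLocalRing

namespace K654.Gen

open K654.PExt

/-- `t` generates the prime `P` locally at `P`. -/
structure IsGen {R : Type*} [CommRing R] (P : Ideal R) (t : R) : Prop where
  mem : t ∈ P
  exists_mul : ∀ a ∈ P, ∃ s, s ∉ P ∧ s * a ∈ Ideal.span {t}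

theorem IsGen.ne_zero {R : Type*} [CommRing R] [IsDomain R] {P : Ideal R} (hP : P ≠ ⊥)
    {t : R} (h : IsGen P t) : t ≠ 0 := by
  rintro rfl
  apply hP
  rw [eq_bot_iff]
  intro a ha
  obtain ⟨s, hs, hsa⟩ := h.exists_mul a ha
  rw [Ideal.span_singleton_zero, Ideal.mem_bot, mul_eq_zero] at hsa
  rcases hsa with rfl | rfl
  · exact absurd (zero_mem _) hs
  · exact zero_mem _

theorem IsGen.maximalIdeal_eq {R S : Type*} [CommRing R] [CommRing S] [Algebra R S] {P : Ideal R}
    [P.IsPrime] [IsLocalization.AtPrime S P] [IsLocalRing S] {t : R} (h : IsGen P t) :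
    maximalIdeal S = Ideal.span {algebraMap R S t} := by
  apply le_antisymm
  · intro z hz
    obtain ⟨⟨a, s⟩, has⟩ := IsLocalization.surj P.primeCompl z
    simp only at has
    have ha : a ∈ P := by
      rw [← IsLocalization.AtPrime.to_map_mem_maximal_iff S P a, ← has]
      exact Ideal.mul_mem_right _ _ hz
    obtain ⟨r, hr, hra⟩ := h.exists_mul a ha
    obtain ⟨c, hc⟩ := Ideal.mem_span_singleton'.mp hra
    obtain ⟨v, hv⟩ : IsUnit (algebraMap R S (r * s)) :=
      IsLocalization.map_units _ ((⟨r, hr⟩ : P.primeCompl) * s)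
    rw [Ideal.mem_span_singleton']
    refine ⟨algebraMap R S c * ↑v⁻¹, ?_⟩
    have h5 : algebraMap R S c * algebraMap R S t = z * v := by
      rw [hv, map_mul, mul_comm (algebraMap R S r), ← mul_assoc, has,
        ← map_mul, ← map_mul, hc, mul_comm]
    calc algebraMap R S c * ↑v⁻¹ * algebraMap R S t
        = (algebraMap R S c * algebraMap R S t) * ↑v⁻¹ := by ring
      _ = z := by rw [h5, mul_assoc, Units.mul_inv, mul_one]
  · rw [Ideal.span_le, Set.singleton_subset_iff]
    exact (IsLocalization.AtPrime.to_map_mem_maximal_iff S P t).mpr h.mem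

theorem IsGen.isDVR {R S : Type*} [CommRing R] [IsDomain R] [IsNoetherianRing R] [CommRing S]
    [IsDomain S] [Algebra R S] {P : Ideal R} [P.IsPrime] (hP : P ≠ ⊥)
    [IsLocalization.AtPrime S P] {t : R} (h : IsGen P t) : IsDiscreteValuationRing S := by
  have h1 : IsLocalRing S := IsLocalization.AtPrime.isLocalRing S P
  have h2 : IsNoetherianRing S := IsLocalization.isNoetherianRing P.primeCompl S inferInstance
  have h3 := h.maximalIdeal_eq (S := S)
  have hinj : Function.Injective (algebraMap R S) :=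
    IsLocalization.injective S P.primeCompl_le_nonZeroDivisors
  have h4 : ¬ IsField S := by
    intro hF
    have h5 := IsLocalRing.isField_iff_maximalIdeal_eq.mp hF
    rw [h3, Ideal.span_singleton_eq_bot] at h5
    exact h.ne_zero hP (hinj (by rw [h5, map_zero]))
  refine ((IsDiscreteValuationRing.TFAE S h4).out 4 0).mp ?_
  exact ⟨_, h3⟩

theorem exists_isGen_of_isDVR {R S : Type*} [CommRing R] [IsDomain R] [CommRing S]
    [IsDomain S] [Algebra R S] {P : Ideal R} [P.IsPrime]
    [IsLocalization.AtPrime S P] [IsDiscreteValuationRing S] : ∃ t : R, IsGen P t := by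
  obtain ⟨ϖ, hϖ⟩ := IsDiscreteValuationRing.exists_irreducible S
  have h1 := hϖ.maximalIdeal_eq
  have hinj : Function.Injective (algebraMap R S) :=
    IsLocalization.injective S P.primeCompl_le_nonZeroDivisors
  obtain ⟨⟨t, s⟩, hts⟩ := IsLocalization.surj P.primeCompl ϖ
  simp only at hts
  refine ⟨t, ?_, fun a ha => ?_⟩
  · rw [← IsLocalization.AtPrime.to_map_mem_maximal_iff S P t, ← hts, h1]
    exact Ideal.mul_mem_right _ _ (Ideal.mem_span_singleton_self _)
  · rw [← IsLocalization.AtPrime.to_map_mem_maximal_iff S P a, h1, Ideal.mem_span_singleton'] at ha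
    obtain ⟨z, hz⟩ := ha
    obtain ⟨⟨b, r⟩, hbr⟩ := IsLocalization.surj P.primeCompl z
    simp only at hbr
    refine ⟨r * s, ?_, ?_⟩
    · exact (r * s).2
    · rw [Ideal.mem_span_singleton']
      refine ⟨b, hinj ?_⟩
      rw [map_mul, ← hts, ← hbr, map_mul, map_mul, ← hz]
      ring

theorem IsGen.map {A B : Type*} [CommRing A] [CommRing B] (φ : A →+* B) {p : Ideal A}
    [p.IsPrime] {t : A}
    (h : IsGen p t) (hp : (p.map φ).comap φ = p) : IsGen (p.map φ) (φ t) := by
  refine ⟨Ideal.mem_map_of_mem φ h.mem, fun b hb => ?_⟩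
  have hset : ∀ s : A, s ∉ p → φ s ∉ p.map φ := by
    intro s hs hs'
    rw [← hp] at hs
    exact hs hs'
  suffices H : ∃ s : A, s ∉ p ∧ φ s * b ∈ Ideal.span {φ t} by
    obtain ⟨s, hs, h⟩ := H
    exact ⟨φ s, hset s hs, h⟩
  refine Submodule.span_induction (p := fun b _ => ∃ s : A, s ∉ p ∧ φ s * b ∈ Ideal.span {φ t})
    ?_ ?_ ?_ ?_ hb
  · rintro _ ⟨a, ha, rfl⟩
    obtain ⟨s, hs, hsa⟩ := h.exists_mul a ha
    refine ⟨s, hs, ?_⟩
    rw [← map_mul]
    have := Ideal.mem_map_of_mem φ hsa
    rwa [Ideal.map_span, Set.image_singleton] at this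
  · refine ⟨1, fun h1 => ?_, by simp⟩
    exact (Ideal.IsPrime.ne_top ‹p.IsPrime›) ((Ideal.eq_top_iff_one p).mpr h1)
  · rintro x y _ _ ⟨s, hs, hsx⟩ ⟨r, hr, hry⟩
    refine ⟨s * r, ?_, ?_⟩
    · intro hsr
      rcases Ideal.IsPrime.mem_or_mem ‹p.IsPrime› hsr with h | h
      exacts [hs h, hr h]
    · rw [map_mul, mul_add]
      refine add_mem ?_ ?_
      · rw [mul_right_comm]
        exact Ideal.mul_mem_right _ _ hsx
      · rw [mul_assoc]
        exact Ideal.mul_mem_left _ _ hry
  · rintro c x _ ⟨s, hs, hsx⟩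
    refine ⟨s, hs, ?_⟩
    rw [smul_eq_mul, mul_left_comm]
    exact Ideal.mul_mem_left _ _ hsx

theorem exists_isGen_of_isLocalization {R R' : Type*} [CommRing R] [CommRing R'] [Algebra R R']
    (M : Submonoid R) [IsLocalization M R'] (P : Ideal R) [P.IsPrime] (hM : Disjoint (M : Set R) P)
    (t' : R') (h : P.map (algebraMap R R') = Ideal.span {t'}) : ∃ t : R, IsGen P t := by
  obtain ⟨⟨t, m⟩, htm⟩ := IsLocalization.surj M t'
  simp only at htm
  have hu := IsLocalization.map_units R' m
  have h1 : P.map (algebraMap R R') = Ideal.span {algebraMap R R' t} := by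
    rw [h, ← htm, Ideal.span_singleton_mul_right_unit hu]
  have htP : t ∈ P := by
    have h2 : t ∈ (P.map (algebraMap R R')).comap (algebraMap R R') := by
      rw [h1]
      exact Ideal.mem_span_singleton_self _
    have h3 : (P.map (algebraMap R R')).comap (algebraMap R R') = P :=
      IsLocalization.under_map_of_isPrime_disjoint M R' ‹P.IsPrime› hM
    rwa [h3] at h2
  refine ⟨t, htP, fun a ha => ?_⟩
  have h3 := Ideal.mem_map_of_mem (algebraMap R R') ha
  rw [h1, Ideal.mem_span_singleton'] at h3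
  obtain ⟨z, hz⟩ := h3
  obtain ⟨⟨b, r⟩, hbr⟩ := IsLocalization.surj M z
  simp only at hbr
  have h4 : algebraMap R R' (r * a) = algebraMap R R' (b * t) := by
    rw [map_mul, map_mul, ← hbr, ← hz]
    ring
  obtain ⟨c, hc⟩ := (IsLocalization.eq_iff_exists M R').mp h4
  refine ⟨c * r, ?_, ?_⟩
  · intro hcr
    exact Set.disjoint_left.mp hM (c * r).2 hcr
  · rw [mul_assoc, hc, ← mul_assoc]
    exact Ideal.mul_mem_left _ _ (Ideal.mem_span_singleton_self _)

theorem exists_span_of_ufd {R : Type*} [CommRing R] [IsDomain R] [UniqueFactorizationMonoid R]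
    (P : Ideal R) [P.IsPrime] (hP : P.height = 1) : ∃ t : R, Prime t ∧ P = Ideal.span {t} := by
  obtain ⟨x, hx, hxp⟩ := Ideal.IsPrime.exists_mem_prime_of_ne_bot ‹P.IsPrime›
    (Ideal.ne_bot_of_height_eq_one hP)
  exact ⟨x, hxp, Ideal.eq_span_singleton_of_height_eq_one hP hx hxp⟩

end K654.Gen
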