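import Groth.Agent.WDiv.K654.OrdMap
import Groth.Agent.WDiv.K654.Gen

/-!
# Orders of sections over an affine open of an integral scheme
-/

set_option autoImplicit false
universe u

open CategoryTheory AlgebraicGeometry TopologicalSpace IsLocalRing

namespace K654.OrdAff

open K654.Gen K654.OrdMap

variable {X : Scheme.{u}}

/-- The prime of the ring of sections over an affine open corresponding to a point. -/
noncomputable def pr {U : X.Opens} (hU : IsAffineOpen U) (x : X) (hx : x ∈ U) : Ideal Γ(X, U) :=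
  (hU.primeIdealOf ⟨x, hx⟩).asIdeal

instance {U : X.Opens} (hU : IsAffineOpen U) (x : X) (hx : x ∈ U) : (pr hU x hx).IsPrime :=
  (hU.primeIdealOf ⟨x, hx⟩).isPrime

theorem isLocalization_pr {U : X.Opens} (hU : IsAffineOpen U) (x : X) (hx : x ∈ U) :
    letI := (X.presheaf.germ U x hx).hom.toAlgebra
    IsLocalization.AtPrime (X.presheaf.stalk x) (pr hU x hx) :=
  hU.isLocalization_stalk ⟨x, hx⟩

theorem comap_germ {U : X.Opens} (hU : IsAffineOpen U) (x : X) (hx : x ∈ U) :
    (maximalIdeal (X.presheaf.stalk x)).comap (X.presheaf.germ U x hx).hom = pr hU x hx := by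
  algebraize [(X.presheaf.germ U x hx).hom]
  have : IsLocalization.AtPrime (X.presheaf.stalk x) (pr hU x hx) := isLocalization_pr hU x hx
  exact IsLocalization.AtPrime.under_maximalIdeal (X.presheaf.stalk x) (pr hU x hx)

theorem mem_pr_iff {U : X.Opens} (hU : IsAffineOpen U) (x : X) (hx : x ∈ U) (a : Γ(X, U)) :
    a ∈ pr hU x hx ↔ x ∉ X.basicOpen a := by
  rw [← comap_germ hU x hx, Ideal.mem_comap, Scheme.mem_basicOpen X a x hx, mem_maximalIdeal,
    mem_nonunits_iff]

theorem height_pr {U : X.Opens} (hU : IsAffineOpen U) (x : X) (hx : x ∈ U) :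
    (pr hU x hx).height = Order.coheight x := by
  algebraize [(X.presheaf.germ U x hx).hom]
  have : IsLocalization.AtPrime (X.presheaf.stalk x) (pr hU x hx) := isLocalization_pr hU x hx
  have h1 := ringKrullDim_stalk_eq_coheight x
  rw [IsLocalization.AtPrime.ringKrullDim_eq_height (pr hU x hx) (X.presheaf.stalk x)] at h1
  exact_mod_cast h1

theorem pr_injective {U : X.Opens} (hU : IsAffineOpen U) (x y : X) (hx : x ∈ U) (hy : y ∈ U)
    (h : pr hU x hx = pr hU y hy) : x = y := by
  have h1 : hU.primeIdealOf ⟨x, hx⟩ = hU.primeIdealOf ⟨y, hy⟩ := PrimeSpectrum.ext h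
  have h2 := congrArg hU.fromSpec h1
  rw [hU.fromSpec_primeIdealOf, hU.fromSpec_primeIdealOf] at h2
  exact h2

theorem exists_pr_eq {U : X.Opens} (hU : IsAffineOpen U) (P : Ideal Γ(X, U)) [P.IsPrime] :
    ∃ (x : X) (hx : x ∈ U), pr hU x hx = P := by
  let z : Spec Γ(X, U) := ⟨P, ‹_›⟩
  have hx : hU.fromSpec z ∈ U := by
    have h1 : hU.fromSpec z ∈ Set.range hU.fromSpec := ⟨z, rfl⟩
    rw [hU.range_fromSpec] at h1
    exact h1
  refine ⟨hU.fromSpec z, hx, ?_⟩
  have h2 : hU.primeIdealOf ⟨hU.fromSpec z, hx⟩ = z := by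
    apply hU.fromSpec.isOpenEmbedding.injective
    rw [hU.fromSpec_primeIdealOf]
  exact congrArg PrimeSpectrum.asIdeal h2

section Integral

variable [IsIntegral X]

/-- Sections as rational functions. -/
noncomputable def gK (U : X.Opens) (hU : genericPoint X ∈ U) : Γ(X, U) →+* X.functionField :=
  (X.presheaf.germ U (genericPoint X) hU).hom

theorem gK_eq (U : X.Opens) (hU : genericPoint X ∈ U) (x : X) (hx : x ∈ U) (a : Γ(X, U)) :
    gK U hU a = algebraMap (X.presheaf.stalk x) X.functionField (X.presheaf.germ U x hx a) := by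
  have : Nonempty U := ⟨⟨x, hx⟩⟩
  exact (Scheme.algebraMap_germ_eq_germToFunctionField (X := X) hx a).symm

theorem gK_injective (U : X.Opens) (hU : genericPoint X ∈ U) : Function.Injective (gK U hU) :=
  germ_injective_of_isIntegral X _ hU

theorem generic_mem {U : X.Opens} {x : X} (hx : x ∈ U) : genericPoint X ∈ U :=
  (genericPoint_specializes x).mem_open U.isOpen hx

theorem pr_eq_bot_iff {U : X.Opens} (hU : IsAffineOpen U) (x : X) (hx : x ∈ U) :
    pr hU x hx = ⊥ ↔ x = genericPoint X := by
  have : Nonempty U := ⟨⟨x, hx⟩⟩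
  have h1 : pr hU (genericPoint X) (generic_mem hx) = ⊥ := by
    unfold pr
    rw [hU.primeIdealOf_genericPoint, genericPoint_eq_bot_of_affine]
    rfl
  constructor
  · intro h
    exact pr_injective hU _ _ hx (generic_mem hx) (h.trans h1.symm)
  · rintro rfl
    exact h1

variable [IsLocallyNoetherian X]

theorem ord_one (x : X) : Scheme.ord (1 : X.functionField) x = 0 := by
  have h1 := Scheme.ord_mul (x := x) (f := (1 : X.functionField)) (g := 1) one_ne_zero one_ne_zero
  rw [mul_one] at h1
  omega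

theorem ord_inv {s : X.functionField} (hs : s ≠ 0) (y : X) :
    Scheme.ord s⁻¹ y = - Scheme.ord s y := by
  have h := Scheme.ord_mul (x := y) hs (inv_ne_zero hs)
  rw [mul_inv_cancel₀ hs, ord_one] at h
  omega

theorem ord_div {s t : X.functionField} (hs : s ≠ 0) (ht : t ≠ 0) (y : X) :
    Scheme.ord (s / t) y = Scheme.ord s y - Scheme.ord t y := by
  rw [div_eq_mul_inv, Scheme.ord_mul hs (inv_ne_zero ht), ord_inv ht]
  ring

theorem ord_pow {s : X.functionField} (hs : s ≠ 0) (y : X) (n : ℕ) :
    Scheme.ord (s ^ n) y = n * Scheme.ord s y := by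
  induction n with
  | zero => simp [ord_one]
  | succ n ih =>
    rw [pow_succ, Scheme.ord_mul (pow_ne_zero n hs) hs, ih]
    push_cast
    ring

theorem ord_zpow {s : X.functionField} (hs : s ≠ 0) (y : X) (n : ℤ) :
    Scheme.ord (s ^ n) y = n * Scheme.ord s y := by
  cases n with
  | ofNat n => simpa using ord_pow hs y n
  | negSucc n =>
    rw [zpow_negSucc, ord_inv (pow_ne_zero _ hs), ord_pow hs]
    push_cast
    rw [Int.negSucc_eq]
    ring

theorem ord_prod {ι : Type*} (s : Finset ι) (f : ι → X.functionField) (hf : ∀ i ∈ s, f i ≠ 0)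
    (y : X) : Scheme.ord (∏ i ∈ s, f i) y = ∑ i ∈ s, Scheme.ord (f i) y := by
  classical
  induction s using Finset.induction_on with
  | empty => simp [ord_one]
  | insert i s his ih =>
    rw [Finset.prod_insert his, Finset.sum_insert his, Scheme.ord_mul (hf i (by simp))
      (Finset.prod_ne_zero_iff.mpr fun j hj => hf j (by simp [hj])),
      ih fun j hj => hf j (by simp [hj])]

/-- Units of a local ring have order zero. -/
theorem ord_algebraMap_unit (x : X) (a : X.presheaf.stalk x) (ha : IsUnit a) :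
    Scheme.ord (algebraMap (X.presheaf.stalk x) X.functionField a) x = 0 := by
  by_cases hx : Order.coheight x = 1
  · have : Ring.KrullDimLE 1 (X.presheaf.stalk x) := krullDimLE_of_coheight_le hx.le
    have h0 : algebraMap (X.presheaf.stalk x) X.functionField a ≠ 0 :=
      (ha.map (algebraMap (X.presheaf.stalk x) X.functionField)).ne_zero
    rw [Scheme.ord_eq_iff hx h0, ordHom_eq_ordFrac]
    exact Ring.ordFrac_of_isUnit ha
  · exact Scheme.ord_eq_zero_of_coheight_neq_one hx _

/-- A section outside the prime of `x` has order zero at `x`. -/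
theorem ord_eq_zero_of_notMem {U : X.Opens} (hU : IsAffineOpen U) (x : X) (hx : x ∈ U)
    (a : Γ(X, U)) (ha : a ∉ pr hU x hx) : Scheme.ord (gK U (generic_mem hx) a) x = 0 := by
  rw [gK_eq U _ x hx]
  apply ord_algebraMap_unit
  rw [← comap_germ hU x hx, Ideal.mem_comap, mem_maximalIdeal, mem_nonunits_iff, not_not] at ha
  exact ha

/-- Elements of a local ring have nonnegative order. -/
theorem ord_algebraMap_nonneg (x : X) (a : X.presheaf.stalk x) :
    0 ≤ Scheme.ord (algebraMap (X.presheaf.stalk x) X.functionField a) x := by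
  by_cases ha : a = 0
  · simp [ha]
  by_cases hx : Order.coheight x = 1
  · have : Ring.KrullDimLE 1 (X.presheaf.stalk x) := krullDimLE_of_coheight_le hx.le
    have h0 : algebraMap (X.presheaf.stalk x) X.functionField a ≠ 0 := fun h =>
      ha (IsFractionRing.injective (X.presheaf.stalk x) X.functionField (by rw [h, map_zero]))
    rw [Scheme.le_ord_iff hx h0, ordHom_eq_ordFrac]
    exact Ring.ordFrac_ge_one_of_ne_zero ha
  · rw [Scheme.ord_eq_zero_of_coheight_neq_one hx]

/-- A local generator has order one. -/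
theorem isDVR_and_ord_of_isGen {U : X.Opens} (hU : IsAffineOpen U) (x : X) (hx : x ∈ U)
    (hx1 : Order.coheight x = 1) (t : Γ(X, U)) (ht : IsGen (pr hU x hx) t) :
    IsDiscreteValuationRing (X.presheaf.stalk x) ∧
      Scheme.ord (gK U (generic_mem hx) t) x = 1 := by
  have hne : Nonempty U := ⟨⟨x, hx⟩⟩
  have hdom : IsDomain Γ(X, U) := inferInstance
  have hnoeth : IsNoetherianRing Γ(X, U) := IsLocallyNoetherian.component_noetherian ⟨U, hU⟩
  algebraize [(X.presheaf.germ U x hx).hom]
  have : IsLocalization.AtPrime (X.presheaf.stalk x) (pr hU x hx) := isLocalization_pr hU x hx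
  have hP : pr hU x hx ≠ ⊥ := by
    intro h
    have := height_pr hU x hx
    rw [h, Ideal.height_bot, hx1] at this
    exact absurd this (by decide)
  have hdvr : IsDiscreteValuationRing (X.presheaf.stalk x) := ht.isDVR hP
  refine ⟨hdvr, ?_⟩
  have h0 : gK U (generic_mem hx) t ≠ 0 := fun h =>
    ht.ne_zero hP (gK_injective U (generic_mem hx) (by rw [h, map_zero]))
  rw [Scheme.ord_eq_iff hx1 h0, ordHom_eq_ordFrac, gK_eq U _ x hx]
  have hirr : Irreducible (X.presheaf.germ U x hx t) := by
    rw [IsDiscreteValuationRing.irreducible_iff_uniformizer]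
    exact ht.maximalIdeal_eq (S := X.presheaf.stalk x)
  exact Ring.ordFrac_irreducible hirr

theorem ord_pos_of_mem {U : X.Opens} (hU : IsAffineOpen U) (x : X) (hx : x ∈ U)
    (hx1 : Order.coheight x = 1) [IsDiscreteValuationRing (X.presheaf.stalk x)] (a : Γ(X, U))
    (ha : a ≠ 0) (hax : a ∈ pr hU x hx) : 0 < Scheme.ord (gK U (generic_mem hx) a) x := by
  have h1 : 0 ≤ Scheme.ord (gK U (generic_mem hx) a) x := by
    rw [gK_eq U _ x hx]
    exact ord_algebraMap_nonneg x _
  refine lt_of_le_of_ne h1 fun h2 => ?_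
  have h0 : gK U (generic_mem hx) a ≠ 0 := fun h =>
    ha (gK_injective U (generic_mem hx) (by rw [h, map_zero]))
  have h3 := (Scheme.ord_eq_iff hx1 h0).mp h2.symm
  rw [ordHom_eq_ordFrac, gK_eq U _ x hx] at h3
  have h4 : IsUnit (X.presheaf.germ U x hx a) := by
    rw [Ring.isUnit_iff_ordFrac_one_of_isDiscreteValuationRing (K := X.functionField)]
    exact h3
  rw [← comap_germ hU x hx, Ideal.mem_comap, mem_maximalIdeal, mem_nonunits_iff] at hax
  exact hax h4

end Integral

end K654.OrdAff
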