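import Mathlib.RingTheory.OrderOfVanishing.Noetherian

/-!
# Orders of vanishing along ring homomorphisms
-/

set_option autoImplicit false
universe u v

open IsLocalRing

namespace K654.OrdFracMap

variable {R S K L : Type*} [CommRing R] [IsDomain R] [CommRing S] [IsDomain S] [Field K] [Field L]
  [Algebra R K] [IsFractionRing R K] [Algebra S L] [IsFractionRing S L]

/-- Orders in an unramified extension of discrete valuation rings. -/
theorem ordFrac_map [IsDiscreteValuationRing R] [IsDiscreteValuationRing S] (φ : R →+* S)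
    (hφ : (maximalIdeal R).map φ = maximalIdeal S) (ψ : K →+* L)
    (h : ∀ r, ψ (algebraMap R K r) = algebraMap S L (φ r)) (x : K) :
    Ring.ordFrac S (ψ x) = Ring.ordFrac R x := by
  obtain ⟨ϖ, hϖ⟩ := IsDiscreteValuationRing.exists_irreducible R
  have hϖ' : Irreducible (φ ϖ) := by
    rw [IsDiscreteValuationRing.irreducible_iff_uniformizer, ← hφ, hϖ.maximalIdeal_eq,
      Ideal.map_span, Set.image_singleton]
  have key : ∀ a : R, a ≠ 0 → Ring.ordFrac S (ψ (algebraMap R K a)) =
      Ring.ordFrac R (algebraMap R K a) := by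
    intro a ha
    obtain ⟨n, u, rfl⟩ := IsDiscreteValuationRing.eq_unit_mul_pow_irreducible ha hϖ
    have h1 : Ring.ordFrac R (algebraMap R K (u * ϖ ^ n)) = (WithZero.exp 1) ^ n := by
      rw [map_mul, map_mul, Ring.ordFrac_of_isUnit u.isUnit, one_mul, map_pow, map_pow,
        Ring.ordFrac_irreducible hϖ]
    have h2 : Ring.ordFrac S (algebraMap S L (φ (u * ϖ ^ n))) = (WithZero.exp 1) ^ n := by
      rw [map_mul, map_mul, map_mul, Ring.ordFrac_of_isUnit (u.isUnit.map φ), one_mul, map_pow,
        map_pow, map_pow, Ring.ordFrac_irreducible hϖ']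
    rw [h, h1, h2]
  obtain ⟨a, b, hb, rfl⟩ := IsFractionRing.div_surjective (A := R) x
  have hb' : b ≠ 0 := nonZeroDivisors.ne_zero hb
  by_cases ha : a = 0
  · simp [ha]
  · rw [map_div₀, map_div₀, map_div₀, key a ha, key b hb']

theorem length_eq_of_semilinear {R S M N : Type*} [CommRing R] [CommRing S] [AddCommGroup M]
    [AddCommGroup N] [Module R M] [Module S N] (σ : R →+* S) (hσ : Function.Surjective σ)
    (f : M →ₛₗ[σ] N) (hf : Function.Bijective f) : Module.length R M = Module.length S N := by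
  have : RingHomSurjective σ := ⟨hσ⟩
  rw [Module.length, Module.length, WithBot.unbot_inj,
    Order.krullDim_eq_of_orderIso (Submodule.orderIsoMapComapOfBijective f hf)]

theorem ord_ringEquiv {R S : Type*} [CommRing R] [CommRing S] (e : R ≃+* S) (x : R) :
    Ring.ord S (e x) = Ring.ord R x := by
  have hI : Ideal.span {e x} = (Ideal.span {x}).map (e : R →+* S) := by
    rw [Ideal.map_span]; simp
  unfold Ring.ord
  symm
  let q := Ideal.quotientEquiv (Ideal.span {x}) (Ideal.span {e x}) e hI
  refine length_eq_of_semilinear (e : R →+* S) e.surjective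
    { toFun := q, map_add' := map_add q, map_smul' := ?_ } q.bijective
  intro r m
  obtain ⟨m, rfl⟩ := Ideal.Quotient.mk_surjective m
  rw [Algebra.smul_def, Algebra.smul_def, map_mul]
  rfl

/-- Orders along an isomorphism. -/
theorem ordFrac_map_of_bijective [IsNoetherianRing R] [Ring.KrullDimLE 1 R] [IsNoetherianRing S]
    [Ring.KrullDimLE 1 S] (φ : R →+* S) (hφ : Function.Bijective φ) (ψ : K →+* L)
    (h : ∀ r, ψ (algebraMap R K r) = algebraMap S L (φ r)) (x : K) :
    Ring.ordFrac S (ψ x) = Ring.ordFrac R x := by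
  have key : ∀ a : R, a ≠ 0 → Ring.ordFrac S (ψ (algebraMap R K a)) =
      Ring.ordFrac R (algebraMap R K a) := by
    intro a ha
    have ha' : φ a ≠ 0 := fun h0 => ha (hφ.1 (by rw [h0, map_zero]))
    rw [h, Ring.ordFrac_eq_ord R ha, Ring.ordFrac_eq_ord S ha',
      Ring.ordMonoidWithZeroHom_eq_ord (mem_nonZeroDivisors_of_ne_zero ha),
      Ring.ordMonoidWithZeroHom_eq_ord (mem_nonZeroDivisors_of_ne_zero ha'),
      ← ord_ringEquiv (RingEquiv.ofBijective φ hφ) a]
    rfl
  obtain ⟨a, b, hb, rfl⟩ := IsFractionRing.div_surjective (A := R) x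
  have hb' : b ≠ 0 := nonZeroDivisors.ne_zero hb
  by_cases ha : a = 0
  · simp [ha]
  · rw [map_div₀, map_div₀, map_div₀, key a ha, key b hb']

end K654.OrdFracMap
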