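import Groth.Agent.WDiv.K654.OrdUFD

/-!
# Divisors on a factorial localization of an affine open
-/

set_option autoImplicit false
universe u

open CategoryTheory AlgebraicGeometry TopologicalSpace IsLocalRing

namespace K654.OrdLocUFD

open K654.Gen K654.OrdMap K654.OrdAff K654.PExt K654.OrdUFD

variable {X : Scheme.{u}} [IsIntegral X] [IsLocallyNoetherian X]

/-- The points of `U` which survive in the localization at `M`. -/
def Good {U : X.Opens} (hU : IsAffineOpen U) (M : Submonoid Γ(X, U)) (x : X) : Prop :=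
  ∃ hx : x ∈ U, Disjoint (M : Set Γ(X, U)) (pr hU x hx)

theorem exists_of_divisor {U : X.Opens} (hU : IsAffineOpen U) (hη : genericPoint X ∈ U)
    (M : Submonoid Γ(X, U)) {B' : Type*} [CommRing B'] [IsDomain B']
    [UniqueFactorizationMonoid B'] [Algebra Γ(X, U) B'] [IsLocalization M B']
    (D : X → ℤ) (hfin : {x : X | Good hU M x ∧ Order.coheight x = 1 ∧ D x ≠ 0}.Finite) :
    ∃ g : X.functionField, g ≠ 0 ∧
      ∀ x, Good hU M x → Order.coheight x = 1 → Scheme.ord g x = D x := by
  classical
  have hne : Nonempty U := ⟨⟨_, hη⟩⟩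
  have hinj := gK_injective U hη
  have hex : ∀ x : X, ∃ t : X.functionField, t ≠ 0 ∧ (Good hU M x → Order.coheight x = 1 →
      Scheme.ord t x = 1 ∧
        ∀ y, Good hU M y → Order.coheight y = 1 → y ≠ x → Scheme.ord t y = 0) := by
    intro x
    by_cases hx : Good hU M x ∧ Order.coheight x = 1
    · obtain ⟨⟨hxU, hxM⟩, hx1⟩ := hx
      have hh : (pr hU x hxU).height = 1 := by rw [height_pr, hx1]
      have h1 : ((pr hU x hxU).map (algebraMap Γ(X, U) B')).IsPrime :=
        IsLocalization.isPrime_of_isPrime_disjoint M B' _ inferInstance hxM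
      have h2 : ((pr hU x hxU).map (algebraMap Γ(X, U) B')).height = 1 := by
        rw [IsLocalization.height_map_of_disjoint M _ hxM, hh]
      obtain ⟨t', htp', hxt'⟩ := exists_span_of_ufd _ h2
      obtain ⟨⟨t, m⟩, htm⟩ := IsLocalization.surj M t'
      simp only at htm
      have hu := IsLocalization.map_units B' m
      have h3 : (pr hU x hxU).map (algebraMap Γ(X, U) B') =
          Ideal.span {algebraMap Γ(X, U) B' t} := by
        rw [hxt', ← htm, Ideal.span_singleton_mul_right_unit hu]
      have hcm : ∀ (y : X) (hy : y ∈ U), Disjoint (M : Set Γ(X, U)) (pr hU y hy) →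
          ((pr hU y hy).map (algebraMap Γ(X, U) B')).comap (algebraMap Γ(X, U) B') =
            pr hU y hy := fun y hy hyM =>
        IsLocalization.under_map_of_isPrime_disjoint M B' inferInstance hyM
      have htx : t ∈ pr hU x hxU := by
        rw [← hcm x hxU hxM, h3]
        exact Ideal.mem_span_singleton_self _
      have ht0 : t ≠ 0 := by
        rintro rfl
        rw [map_zero, Ideal.span_singleton_zero] at h3
        rw [h3, Ideal.height_bot] at h2
        exact absurd h2 (by decide)
      have hgen : IsGen (pr hU x hxU) t := by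
        refine ⟨htx, fun a ha => ?_⟩
        have h4 := Ideal.mem_map_of_mem (algebraMap Γ(X, U) B') ha
        rw [h3, Ideal.mem_span_singleton'] at h4
        obtain ⟨z, hz⟩ := h4
        obtain ⟨⟨b, r⟩, hbr⟩ := IsLocalization.surj M z
        simp only at hbr
        have h5 : algebraMap Γ(X, U) B' (r * a) = algebraMap Γ(X, U) B' (b * t) := by
          rw [map_mul, map_mul, ← hbr, ← hz]
          ring
        obtain ⟨c, hc⟩ := (IsLocalization.eq_iff_exists M B').mp h5
        refine ⟨c * r, fun hcr => Set.disjoint_left.mp hxM (c * r).2 hcr, ?_⟩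
        rw [mul_assoc, hc, ← mul_assoc]
        exact Ideal.mul_mem_left _ _ (Ideal.mem_span_singleton_self _)
      have h0 : gK U hη t ≠ 0 := fun h0 => ht0 (hinj (by rw [h0, map_zero]))
      refine ⟨gK U hη t, h0, fun _ _ => ⟨(isDVR_and_ord_of_isGen hU x hxU hx1 t hgen).2,
        fun y ⟨hy, hyM⟩ hy1 hyx => ?_⟩⟩
      refine ord_eq_zero_of_notMem hU y hy t fun hty => hyx ?_
      have hle : pr hU x hxU ≤ pr hU y hy := by
        have : (pr hU x hxU).map (algebraMap Γ(X, U) B') ≤
            (pr hU y hy).map (algebraMap Γ(X, U) B') := by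
          rw [h3, Ideal.span_le, Set.singleton_subset_iff]
          exact Ideal.mem_map_of_mem _ hty
        have := Ideal.comap_mono (f := algebraMap Γ(X, U) B') this
        rwa [hcm x hxU hxM, hcm y hy hyM] at this
      have hyh : (pr hU y hy).height = 1 := by rw [height_pr, hy1]
      have := eq_of_le_of_height_one hyh (Ideal.ne_bot_of_height_eq_one hh) hle
      exact (pr_injective hU _ _ _ _ this).symm
    · exact ⟨1, one_ne_zero, fun h1 h2 => absurd ⟨h1, h2⟩ hx⟩
  choose t ht0 ht using hex
  let S := hfin.toFinset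
  refine ⟨∏ x ∈ S, t x ^ D x, Finset.prod_ne_zero_iff.mpr fun x _ => zpow_ne_zero _ (ht0 x), ?_⟩
  intro y hy hy1
  rw [ord_prod _ _ fun x _ => zpow_ne_zero _ (ht0 x)]
  simp_rw [ord_zpow (ht0 _)]
  by_cases hyS : y ∈ S
  · rw [Finset.sum_eq_single y]
    · rw [((ht y) hy hy1).1, mul_one]
    · intro x hx hxy
      have hx' : Good hU M x ∧ Order.coheight x = 1 ∧ D x ≠ 0 := by simpa [S] using hx
      rw [((ht x) hx'.1 hx'.2.1).2 y hy hy1 (Ne.symm hxy), mul_zero]
    · intro h
      exact absurd hyS h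
  · have hD : D y = 0 := by
      by_contra hD
      exact hyS (by simpa [S] using ⟨hy, hy1, hD⟩)
    rw [hD]
    refine Finset.sum_eq_zero fun x hx => ?_
    have hx' : Good hU M x ∧ Order.coheight x = 1 ∧ D x ≠ 0 := by simpa [S] using hx
    have hxy : y ≠ x := by
      rintro rfl
      exact hyS hx
    rw [((ht x) hx'.1 hx'.2.1).2 y hy hy1 hxy, mul_zero]

/-- A rational function without zeros and poles on the factorial localization is a unit of it. -/
theorem exists_unit_of_ord_eq_zero {U : X.Opens} (hU : IsAffineOpen U) (hη : genericPoint X ∈ U)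
    (M : Submonoid Γ(X, U)) (hM0 : (0 : Γ(X, U)) ∉ M) {B' : Type*} [CommRing B'] [IsDomain B']
    [UniqueFactorizationMonoid B'] [Algebra Γ(X, U) B'] [IsLocalization M B']
    (ψ : B' →+* X.functionField) (hψ : ∀ a, ψ (algebraMap Γ(X, U) B' a) = gK U hη a)
    (g : X.functionField) (hg : g ≠ 0)
    (h : ∀ x, Good hU M x → Order.coheight x = 1 → Scheme.ord g x = 0) :
    ∃ v : B', IsUnit v ∧ ψ v = g := by
  have hne : Nonempty U := ⟨⟨_, hη⟩⟩
  have hdom : IsDomain Γ(X, U) := inferInstance
  have hnoeth : IsNoetherianRing Γ(X, U) := IsLocallyNoetherian.component_noetherian ⟨U, hU⟩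
  have hnoeth' : IsNoetherianRing B' := IsLocalization.isNoetherianRing M B' inferInstance
  have hMn : M ≤ nonZeroDivisors Γ(X, U) := le_nonZeroDivisors_of_noZeroDivisors hM0
  have hfrac : IsFractionRing Γ(X, U) X.functionField :=
    functionField_isFractionRing_of_isAffineOpen X U hU
  have hinj := gK_injective U hη
  have hinjB : Function.Injective (algebraMap Γ(X, U) B') := IsLocalization.injective B' hMn
  let _ : Algebra B' X.functionField := ψ.toAlgebra
  have htower : IsScalarTower Γ(X, U) B' X.functionField :=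
    IsScalarTower.of_algebraMap_eq fun a => (hψ a).symm
  have hfrac' : IsFractionRing B' X.functionField :=
    IsFractionRing.isFractionRing_of_isDomain_of_isLocalization M B' X.functionField
  have hψinj : Function.Injective ψ := IsFractionRing.injective B' X.functionField
  -- multiply into the ring of sections
  have clear : ∀ a : B', ∃ (a₀ : Γ(X, U)) (m : Γ(X, U)), m ∈ M ∧
      a * algebraMap Γ(X, U) B' m = algebraMap Γ(X, U) B' a₀ := by
    intro a
    obtain ⟨⟨a₀, m⟩, ham⟩ := IsLocalization.surj M a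
    exact ⟨a₀, m, m.2, ham⟩
  have hu : ∀ m ∈ M, IsUnit (algebraMap Γ(X, U) B' m) := fun m hm =>
    IsLocalization.map_units B' ⟨m, hm⟩
  have key : ∀ (a b : B'), a ≠ 0 → b ≠ 0 → IsRelPrime a b →
      (∀ x, Good hU M x → Order.coheight x = 1 →
        Scheme.ord (ψ a) x = Scheme.ord (ψ b) x) → IsUnit a := by
    intro a b ha hb hab H
    by_contra hna
    obtain ⟨p, hp, hpa⟩ := WfDvdMonoid.exists_irreducible_factor hna ha
    have hpp : Prime p := hp.prime
    have hP' : (Ideal.span {p}).IsPrime := (Ideal.span_singleton_prime hpp.ne_zero).mpr hpp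
    have hP : ((Ideal.span {p}).comap (algebraMap Γ(X, U) B')).IsPrime := Ideal.comap_isPrime _ _
    obtain ⟨x, hx, hxp⟩ := exists_pr_eq hU ((Ideal.span {p}).comap (algebraMap Γ(X, U) B'))
    have hdisj : Disjoint (M : Set Γ(X, U)) (pr hU x hx) := by
      rw [Set.disjoint_left]
      intro m hm hmx
      rw [hxp] at hmx
      exact hP'.ne_top (Ideal.eq_top_of_isUnit_mem _ hmx (hu m hm))
    have hmap : (pr hU x hx).map (algebraMap Γ(X, U) B') = Ideal.span {p} := by
      rw [hxp]
      exact IsLocalization.map_under M B' _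
    have hx1 : Order.coheight x = 1 := by
      rw [← height_pr hU x hx, ← IsLocalization.height_map_of_disjoint (S := B') M _ hdisj, hmap]
      exact Ideal.height_span_singleton_eq_one_of_mem_nonZeroDivisors
        (mem_nonZeroDivisors_of_ne_zero hpp.ne_zero) hpp.not_isUnit
    obtain ⟨t, ht⟩ := exists_isGen_of_isLocalization M (pr hU x hx) hdisj p hmap
    obtain ⟨hdvr, _⟩ := isDVR_and_ord_of_isGen hU x hx hx1 t ht
    obtain ⟨a₀, m, hm, ham⟩ := clear a
    obtain ⟨b₀, n, hn, hbn⟩ := clear b
    have hm0 : m ≠ 0 := fun h0 => hM0 (h0 ▸ hm)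
    have hn0 : n ≠ 0 := fun h0 => hM0 (h0 ▸ hn)
    have ha₀ : a₀ ≠ 0 := by
      rintro rfl
      rw [map_zero, mul_eq_zero] at ham
      exact ham.elim ha (hu m hm).ne_zero
    have e1 : ψ a * gK U hη m = gK U hη a₀ := by rw [← hψ, ← map_mul, ham, hψ]
    have e2 : ψ b * gK U hη n = gK U hη b₀ := by rw [← hψ, ← map_mul, hbn, hψ]
    have hψa : ψ a ≠ 0 := (map_ne_zero_iff ψ hψinj).mpr ha
    have hψb : ψ b ≠ 0 := (map_ne_zero_iff ψ hψinj).mpr hb
    have hgm : gK U hη m ≠ 0 := (map_ne_zero_iff _ hinj).mpr hm0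
    have hgn : gK U hη n ≠ 0 := (map_ne_zero_iff _ hinj).mpr hn0
    have h1 : a₀ ∈ pr hU x hx := by
      rw [hxp, Ideal.mem_comap, ← ham, Ideal.mem_span_singleton]
      exact hpa.mul_right _
    have h2 : b₀ ∉ pr hU x hx := by
      rw [hxp, Ideal.mem_comap, ← hbn, Ideal.mem_span_singleton]
      intro hpb
      have : p ∣ b := (IsUnit.dvd_mul_right (hu n hn)).mp hpb
      exact hp.not_isUnit (hab hpa this)
    have h3 := ord_pos_of_mem hU x hx hx1 a₀ ha₀ h1
    have h4 := ord_eq_zero_of_notMem hU x hx b₀ h2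
    have h5 := ord_eq_zero_of_notMem hU x hx m (Set.disjoint_left.mp hdisj hm)
    have h6 := ord_eq_zero_of_notMem hU x hx n (Set.disjoint_left.mp hdisj hn)
    rw [← e1, Scheme.ord_mul hψa hgm, h5, add_zero] at h3
    rw [← e2, Scheme.ord_mul hψb hgn, h6, add_zero] at h4
    have h7 := H x ⟨hx, hdisj⟩ hx1
    omega
  obtain ⟨a, b, hrel, hab⟩ := IsFractionRing.exists_reduced_fraction (A := B')
    (K := X.functionField) g
  have hb0 : (b : B') ≠ 0 := nonZeroDivisors.ne_zero b.2
  have hgb : ψ b ≠ 0 := (map_ne_zero_iff ψ hψinj).mpr hb0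
  have hga : g * ψ b = ψ a := by
    have := IsLocalization.mk'_spec (X.functionField) a b
    rw [hab] at this
    exact this
  have ha0 : a ≠ 0 := by
    rintro rfl
    rw [map_zero, mul_eq_zero] at hga
    exact hga.elim hg hgb
  have H : ∀ x, Good hU M x → Order.coheight x = 1 →
      Scheme.ord (ψ a) x = Scheme.ord (ψ b) x := by
    intro x hx hx1
    rw [← hga, Scheme.ord_mul hg hgb, h x hx hx1, zero_add]
  have hua := key a b ha0 hb0 hrel H
  have hub := key b a hb0 ha0 hrel.symm fun x hx hx1 => (H x hx hx1).symm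
  obtain ⟨b', hb'⟩ := hub
  refine ⟨a * ↑b'⁻¹, hua.mul b'⁻¹.isUnit, ?_⟩
  have h6 : ψ (↑b'⁻¹) * ψ b = 1 := by
    rw [← map_mul, ← hb', Units.inv_mul, map_one]
  rw [map_mul, ← hga, mul_assoc, mul_comm (ψ b), h6, mul_one]

end K654.OrdLocUFD
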