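import Groth.Agent.WDiv.K654.PolyMap
import Groth.Agent.WDiv.K654.OrdOpen

/-!
# Divisors on the generic fibre of a morphism which locally on the base is an affine space
-/

set_option autoImplicit false
universe u

open CategoryTheory AlgebraicGeometry TopologicalSpace IsLocalRing

namespace K654.PolyMap

open K654.Gen K654.OrdMap K654.OrdAff K654.PExt K654.OrdLocUFD

attribute [local instance] MvPolynomial.algebraMvPolynomial

section

variable {σ : Type u} {X Y : Scheme.{u}} [IsIntegral X] [IsIntegral Y] {q : Y ⟶ X}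
  (hq : IsPoly σ q)

include hq

omit [AlgebraicGeometry.IsIntegral Y] in
theorem IsPoly.exists_algebra {U : X.Opens} (hU : IsAffineOpen U) (hne : Nonempty U) :
    ∃ _ : Algebra Γ(Y, q ⁻¹ᵁ U) (MvPolynomial σ X.functionField),
      IsLocalization ((nonZeroDivisors Γ(X, U)).map (q.app U).hom)
        (MvPolynomial σ X.functionField) ∧
      ∀ a : Γ(X, U), algebraMap Γ(Y, q ⁻¹ᵁ U) (MvPolynomial σ X.functionField)
        ((q.app U).hom a) = MvPolynomial.C (algebraMap Γ(X, U) X.functionField a) := by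
  have hfrac : IsFractionRing Γ(X, U) X.functionField :=
    functionField_isFractionRing_of_isAffineOpen X U hU
  obtain ⟨e, he⟩ := hq.app_eq U hU
  have h1 : IsLocalization ((nonZeroDivisors Γ(X, U)).map
      (MvPolynomial.C : Γ(X, U) →+* MvPolynomial σ Γ(X, U))) (MvPolynomial σ X.functionField) :=
    MvPolynomial.isLocalization _ _
  have h2 := IsLocalization.isLocalization_of_base_ringEquiv ((nonZeroDivisors Γ(X, U)).map
      (MvPolynomial.C : Γ(X, U) →+* MvPolynomial σ Γ(X, U))) (MvPolynomial σ X.functionField) e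
  refine ⟨((algebraMap (MvPolynomial σ Γ(X, U)) (MvPolynomial σ X.functionField)).comp
    e.symm.toRingHom).toAlgebra, ?_, ?_⟩
  · convert h2 using 1
    rw [he]
    ext b
    simp only [Submonoid.mem_map]
    constructor
    · rintro ⟨a, ha, rfl⟩
      exact ⟨_, ⟨a, ha, rfl⟩, rfl⟩
    · rintro ⟨_, ⟨a, ha, rfl⟩, rfl⟩
      exact ⟨a, ha, rfl⟩
  · intro a
    change (algebraMap (MvPolynomial σ Γ(X, U)) (MvPolynomial σ X.functionField))
      (e.symm ((q.app U).hom a)) = _
    rw [he]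
    change (algebraMap (MvPolynomial σ Γ(X, U)) (MvPolynomial σ X.functionField))
      (e.symm (e (MvPolynomial.C a))) = _
    rw [e.symm_apply_apply, MvPolynomial.algebraMap_def, MvPolynomial.map_C]

omit [AlgebraicGeometry.IsIntegral Y] in
theorem IsPoly.good_of_generic {U : X.Opens} (hU : IsAffineOpen U) (hη : genericPoint X ∈ U)
    (y : Y) (hy : q y = genericPoint X) :
    Good (hq.affine U hU) ((nonZeroDivisors Γ(X, U)).map (q.app U).hom) y := by
  have hne : Nonempty U := ⟨⟨_, hη⟩⟩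
  have hyU : y ∈ q ⁻¹ᵁ U := by
    change q y ∈ U
    rw [hy]
    exact hη
  refine ⟨hyU, ?_⟩
  rw [Set.disjoint_left]
  rintro _ ⟨a, ha, rfl⟩ h
  have h1 := pr_image q hU (hq.affine U hU) y hyU
  rw [(pr_eq_bot_iff hU (q y) hyU).mpr hy] at h1
  have h2 : a ∈ (pr (hq.affine U hU) y hyU).comap (q.app U).hom := h
  rw [← h1, Ideal.mem_bot] at h2
  exact nonZeroDivisors.ne_zero ha h2

omit [AlgebraicGeometry.IsIntegral Y] in
theorem IsPoly.generic_of_good {U : X.Opens} (hU : IsAffineOpen U) (hη : genericPoint X ∈ U)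
    (y : Y)
    (hy : Good (hq.affine U hU) ((nonZeroDivisors Γ(X, U)).map (q.app U).hom) y) :
    q y = genericPoint X := by
  have hne : Nonempty U := ⟨⟨_, hη⟩⟩
  obtain ⟨hyU, hd⟩ := hy
  rw [← pr_eq_bot_iff hU (q y) hyU, pr_image q hU (hq.affine U hU) y hyU, eq_bot_iff]
  intro a ha
  by_contra ha0
  exact Set.disjoint_left.mp hd ⟨a, mem_nonZeroDivisors_of_ne_zero ha0, rfl⟩ ha

variable [IsLocallyNoetherian Y]

/-- On the generic fibre every divisor is principal. -/
theorem IsPoly.exists_of_divisor_generic (D : Y → ℤ) (hfin : {y | D y ≠ 0}.Finite) :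
    ∃ g : Y.functionField, g ≠ 0 ∧
      ∀ y, q y = genericPoint X → Order.coheight y = 1 → Scheme.ord g y = D y := by
  obtain ⟨U, hU, hηU⟩ : ∃ U : X.Opens, IsAffineOpen U ∧ genericPoint X ∈ U := by
    obtain ⟨_, ⟨V, hV, rfl⟩, hxV, -⟩ :=
      X.isBasis_affineOpens.exists_subset_of_mem_open (Set.mem_univ (genericPoint X)) isOpen_univ
    exact ⟨V, hV, hxV⟩
  obtain ⟨_, hloc, -⟩ := hq.exists_algebra hU ⟨⟨_, hηU⟩⟩
  have hηV : genericPoint Y ∈ q ⁻¹ᵁ U := by
    change q (genericPoint Y) ∈ U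
    rw [hq.generic]
    exact hηU
  obtain ⟨g, hg0, hg⟩ := exists_of_divisor (hq.affine U hU) hηV
    ((nonZeroDivisors Γ(X, U)).map (q.app U).hom) (B' := MvPolynomial σ X.functionField) D
    (hfin.subset fun y hy => hy.2.2)
  exact ⟨g, hg0, fun y hy hy1 => hg y (hq.good_of_generic hU hηU y hy) hy1⟩

/-- Rational functions without zeros and poles on the generic fibre come from the base. -/
theorem IsPoly.exists_ff_eq (g : Y.functionField) (hg : g ≠ 0)
    (h : ∀ y, q y = genericPoint X → Order.coheight y = 1 → Scheme.ord g y = 0) :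
    ∃ f : X.functionField, f ≠ 0 ∧ (ff q hq.generic).hom f = g := by
  obtain ⟨U, hU, hηU⟩ : ∃ U : X.Opens, IsAffineOpen U ∧ genericPoint X ∈ U := by
    obtain ⟨_, ⟨V, hV, rfl⟩, hxV, -⟩ :=
      X.isBasis_affineOpens.exists_subset_of_mem_open (Set.mem_univ (genericPoint X)) isOpen_univ
    exact ⟨V, hV, hxV⟩
  have hne : Nonempty U := ⟨⟨_, hηU⟩⟩
  have hfrac : IsFractionRing Γ(X, U) X.functionField :=
    functionField_isFractionRing_of_isAffineOpen X U hU
  obtain ⟨alg, hloc, halg⟩ := hq.exists_algebra hU ⟨⟨_, hηU⟩⟩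
  have hηV : genericPoint Y ∈ q ⁻¹ᵁ U := by
    change q (genericPoint Y) ∈ U
    rw [hq.generic]
    exact hηU
  have hne' : Nonempty (q ⁻¹ᵁ U) := ⟨⟨_, hηV⟩⟩
  have hinj := gK_injective (q ⁻¹ᵁ U) hηV
  have hM0 : (0 : Γ(Y, q ⁻¹ᵁ U)) ∉ (nonZeroDivisors Γ(X, U)).map (q.app U).hom := by
    rintro ⟨a, ha, h0⟩
    exact nonZeroDivisors.ne_zero ha (hq.injective U hU (h0.trans (map_zero _).symm))
  have hlift : ∀ m : (nonZeroDivisors Γ(X, U)).map (q.app U).hom,
      IsUnit (gK (q ⁻¹ᵁ U) hηV (m : Γ(Y, q ⁻¹ᵁ U))) := by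
    rintro ⟨m, hm⟩
    have : gK (q ⁻¹ᵁ U) hηV m ≠ 0 := (map_ne_zero_iff _ hinj).mpr fun h0 => hM0 (h0 ▸ hm)
    exact this.isUnit
  let ψ : MvPolynomial σ X.functionField →+* Y.functionField := IsLocalization.lift hlift
  have hψ : ∀ a, ψ (algebraMap Γ(Y, q ⁻¹ᵁ U) _ a) = gK (q ⁻¹ᵁ U) hηV a := fun a =>
    IsLocalization.lift_eq hlift a
  obtain ⟨v, hv, hvg⟩ := exists_unit_of_ord_eq_zero (hq.affine U hU) hηV
    ((nonZeroDivisors Γ(X, U)).map (q.app U).hom) hM0 ψ hψ g hg
    fun y hy hy1 => h y (hq.generic_of_good hU hηU y hy) hy1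
  obtain ⟨c, hc, rfl⟩ := MvPolynomial.isUnit_iff_eq_C_of_isReduced.mp hv
  refine ⟨c, hc.ne_zero, ?_⟩
  rw [← hvg]
  have key : (ff q hq.generic).hom = ψ.comp MvPolynomial.C := by
    refine IsLocalization.ringHom_ext (nonZeroDivisors Γ(X, U)) (RingHom.ext fun a => ?_)
    rw [RingHom.comp_apply, RingHom.comp_apply, RingHom.comp_apply, ← halg a, hψ]
    exact ff_germ q hq.generic U a
  rw [key]
  rfl

end

end K654.PolyMap
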