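import Groth.Agent.WDiv.K654.OrdLocUFD
import Groth.Agent.WDiv.K654.R1Poly
import Mathlib.RingTheory.MvPolynomial.Localization
import Mathlib.Algebra.MvPolynomial.Nilpotent

/-!
# Divisors along morphisms which locally on the base are affine spaces
-/

set_option autoImplicit false
universe u

open CategoryTheory AlgebraicGeometry TopologicalSpace IsLocalRing

namespace K654.PolyMap

open K654.Gen K654.OrdMap K654.OrdAff K654.PExt K654.OrdLocUFD

/-- Over every affine open `U` of `X`, `q` is the spectrum of a polynomial ring over `Γ(X, U)`. -/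
structure IsPoly (σ : Type u) {X Y : Scheme.{u}} (q : Y ⟶ X) : Prop where
  affine : ∀ U : X.Opens, IsAffineOpen U → IsAffineOpen (q ⁻¹ᵁ U)
  exists_equiv : ∀ U : X.Opens, IsAffineOpen U →
    ∃ e : MvPolynomial σ Γ(X, U) ≃+* Γ(Y, q ⁻¹ᵁ U), ∀ a, e (MvPolynomial.C a) = (q.app U).hom a

section

variable {σ : Type u} {X Y : Scheme.{u}} {q : Y ⟶ X} (hq : IsPoly σ q)

include hq

theorem IsPoly.app_eq (U : X.Opens) (hU : IsAffineOpen U) :
    ∃ e : MvPolynomial σ Γ(X, U) ≃+* Γ(Y, q ⁻¹ᵁ U),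
      (q.app U).hom = (e : MvPolynomial σ Γ(X, U) →+* Γ(Y, q ⁻¹ᵁ U)).comp MvPolynomial.C := by
  obtain ⟨e, he⟩ := hq.exists_equiv U hU
  exact ⟨e, RingHom.ext fun a => (he a).symm⟩

theorem IsPoly.primeExt (U : X.Opens) (hU : IsAffineOpen U) : PrimeExt (q.app U).hom := by
  obtain ⟨e, he⟩ := hq.app_eq U hU
  rw [he]
  exact (mvPolynomial σ Γ(X, U)).comp_equiv e

theorem IsPoly.injective (U : X.Opens) (hU : IsAffineOpen U) :
    Function.Injective (q.app U).hom := by
  obtain ⟨e, he⟩ := hq.app_eq U hU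
  rw [he]
  exact e.injective.comp (MvPolynomial.C_injective σ _)

end

/-- The prime of the image of a point. -/
theorem pr_image {X Y : Scheme.{u}} (q : Y ⟶ X) {U : X.Opens} (hU : IsAffineOpen U)
    (hU' : IsAffineOpen (q ⁻¹ᵁ U)) (y : Y) (hy : y ∈ q ⁻¹ᵁ U) :
    pr hU (q y) hy = (pr hU' y hy).comap (q.app U).hom := by
  ext a
  rw [Ideal.mem_comap, mem_pr_iff, mem_pr_iff]
  have h1 : q ⁻¹ᵁ (X.basicOpen a) = Y.basicOpen ((q.app U).hom a) :=
    Scheme.preimage_basicOpen q a
  rw [← h1]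
  rfl

section

variable {σ : Type u} {X Y : Scheme.{u}} [IsIntegral X] [IsIntegral Y] {q : Y ⟶ X}
  (hq : IsPoly σ q)

include hq

theorem IsPoly.generic : q (genericPoint Y) = genericPoint X := by
  obtain ⟨U, hU, hηU⟩ : ∃ U : X.Opens, IsAffineOpen U ∧ q (genericPoint Y) ∈ U := by
    obtain ⟨_, ⟨V, hV, rfl⟩, hxV, -⟩ :=
      X.isBasis_affineOpens.exists_subset_of_mem_open (Set.mem_univ (q (genericPoint Y)))
        isOpen_univ
    exact ⟨V, hV, hxV⟩
  have h1 := pr_image q hU (hq.affine U hU) (genericPoint Y) hηU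
  rw [(pr_eq_bot_iff (hq.affine U hU) (genericPoint Y) hηU).mpr rfl] at h1
  rw [← pr_eq_bot_iff hU _ hηU, h1]
  rw [← RingHom.ker_eq_comap_bot]
  exact (RingHom.injective_iff_ker_eq_bot _).mp (hq.injective U hU)

variable [IsLocallyNoetherian X] [IsLocallyNoetherian Y]

omit [IsLocallyNoetherian X] [IsLocallyNoetherian Y] in
/-- Codimension one points lie over the generic point or are generic in a fibre over a codimension
one point. -/
theorem IsPoly.dichotomy {U : X.Opens} (hU : IsAffineOpen U) (y : Y) (hy : y ∈ q ⁻¹ᵁ U)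
    (hy1 : Order.coheight y = 1) :
    q y = genericPoint X ∨ (Order.coheight (q y) = 1 ∧
      pr (hq.affine U hU) y hy = (pr hU (q y) hy).map (q.app U).hom) := by
  have hne : Nonempty U := ⟨⟨q y, hy⟩⟩
  have hne' : Nonempty (q ⁻¹ᵁ U) := ⟨⟨y, hy⟩⟩
  have h1 : (pr (hq.affine U hU) y hy).height = 1 := by rw [height_pr, hy1]
  rcases (hq.primeExt U hU).dichotomy (hq.injective U hU) _ h1 with h | ⟨h2, h3⟩
  · left
    rw [← pr_image q hU (hq.affine U hU) y hy, pr_eq_bot_iff] at h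
    exact h
  · right
    rw [← pr_image q hU (hq.affine U hU) y hy] at h2 h3
    rw [height_pr] at h2
    exact ⟨h2, h3⟩

omit [IsLocallyNoetherian X] [IsLocallyNoetherian Y] in
/-- A codimension one point over a codimension one point is unique. -/
theorem IsPoly.unique (y y' : Y) (hy1 : Order.coheight y = 1) (hy1' : Order.coheight y' = 1)
    (h : q y = q y') (hx : Order.coheight (q y) = 1) : y = y' := by
  obtain ⟨U, hU, hyU⟩ : ∃ U : X.Opens, IsAffineOpen U ∧ q y ∈ U := by
    obtain ⟨_, ⟨V, hV, rfl⟩, hxV, -⟩ :=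
      X.isBasis_affineOpens.exists_subset_of_mem_open (Set.mem_univ (q y)) isOpen_univ
    exact ⟨V, hV, hxV⟩
  have hη : q y ≠ genericPoint X := by
    intro h0
    have h1 := (pr_eq_bot_iff hU (q y) hyU).mpr h0
    have h2 := height_pr hU (q y) hyU
    have hne : Nonempty U := ⟨⟨q y, hyU⟩⟩
    rw [h1, Ideal.height_bot, hx] at h2
    exact absurd h2 (by decide)
  have hyU' : q y' ∈ U := by rw [← h]; exact hyU
  rcases hq.dichotomy hU y hyU hy1 with h1 | ⟨_, h1⟩
  · exact absurd h1 hη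
  rcases hq.dichotomy hU y' hyU' hy1' with h2 | ⟨_, h2⟩
  · exact absurd (h.trans h2) hη
  refine pr_injective (hq.affine U hU) _ _ hyU hyU' ?_
  rw [h1, h2]
  congr 1
  ext a
  rw [mem_pr_iff, mem_pr_iff, h]

/-- The generic point of the fibre over a codimension one point. -/
theorem IsPoly.exists_point (x : X) (hx : Order.coheight x = 1)
    (hR1 : IsDiscreteValuationRing (X.presheaf.stalk x)) :
    ∃ y : Y, q y = x ∧ Order.coheight y = 1 := by
  obtain ⟨U, hU, hxU⟩ : ∃ U : X.Opens, IsAffineOpen U ∧ x ∈ U := by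
    obtain ⟨_, ⟨V, hV, rfl⟩, hxV, -⟩ :=
      X.isBasis_affineOpens.exists_subset_of_mem_open (Set.mem_univ x) isOpen_univ
    exact ⟨V, hV, hxV⟩
  have hne : Nonempty U := ⟨⟨x, hxU⟩⟩
  have hpe := hq.primeExt U hU
  have hP := hpe.isPrime_map (pr hU x hxU) inferInstance
  have hc := hpe.comap_map (pr hU x hxU) inferInstance
  obtain ⟨y, hy, hyP⟩ := exists_pr_eq (hq.affine U hU) ((pr hU x hxU).map (q.app U).hom)
  have hne' : Nonempty (q ⁻¹ᵁ U) := ⟨⟨y, hy⟩⟩
  have hqy : q y = x := by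
    refine pr_injective hU _ _ hy hxU ?_
    rw [pr_image q hU (hq.affine U hU) y hy, hyP, hc]
  refine ⟨y, hqy, ?_⟩
  have hnoeth : IsNoetherianRing Γ(Y, q ⁻¹ᵁ U) :=
    IsLocallyNoetherian.component_noetherian ⟨q ⁻¹ᵁ U, hq.affine U hU⟩
  obtain ⟨t, ht⟩ : ∃ t, IsGen (pr hU x hxU) t := by
    algebraize [(X.presheaf.germ U x hxU).hom]
    have : IsLocalization.AtPrime (X.presheaf.stalk x) (pr hU x hxU) := isLocalization_pr hU x hxU
    exact exists_isGen_of_isDVR (S := X.presheaf.stalk x)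
  have ht' := ht.map (q.app U).hom hc
  rw [← hyP] at ht'
  have hp0 : pr hU x hxU ≠ ⊥ := by
    intro h
    have := height_pr hU x hxU
    rw [h, Ideal.height_bot, hx] at this
    exact absurd this (by decide)
  have hP0 : pr (hq.affine U hU) y hy ≠ ⊥ := by
    rw [hyP]
    exact fun h => hp0 ((Ideal.map_eq_bot_iff_of_injective (hq.injective U hU)).mp h)
  rw [← height_pr (hq.affine U hU) y hy]
  apply le_antisymm
  · have hmin : pr (hq.affine U hU) y hy ∈ (Ideal.span {(q.app U).hom t}).minimalPrimes := by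
      refine ⟨⟨inferInstance, ?_⟩, fun Q ⟨hQ, hQt⟩ hQP => ?_⟩
      · rw [Ideal.span_le, Set.singleton_subset_iff]
        exact ht'.mem
      · intro a ha
        obtain ⟨s, hs, hsa⟩ := ht'.exists_mul a ha
        rcases hQ.mem_or_mem (hQt hsa) with h | h
        · exact absurd (hQP h) hs
        · exact h
    exact Ideal.height_le_one_of_isPrincipal_of_mem_minimalPrimes _ _ hmin
  · rw [Order.one_le_iff_ne_zero]
    exact fun h => hP0 (Ideal.height_eq_zero_iff_eq_bot.mp h)

/-- Orders of rational functions coming from the base. -/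
theorem IsPoly.ord_ff (y : Y) (hy1 : Order.coheight y = 1) (hx : Order.coheight (q y) = 1)
    (hR1 : IsDiscreteValuationRing (X.presheaf.stalk (q y))) (g : X.functionField) :
    Scheme.ord ((ff q hq.generic).hom g) y = Scheme.ord g (q y) := by
  obtain ⟨U, hU, hyU⟩ : ∃ U : X.Opens, IsAffineOpen U ∧ q y ∈ U := by
    obtain ⟨_, ⟨V, hV, rfl⟩, hxV, -⟩ :=
      X.isBasis_affineOpens.exists_subset_of_mem_open (Set.mem_univ (q y)) isOpen_univ
    exact ⟨V, hV, hxV⟩
  have hne : Nonempty U := ⟨⟨q y, hyU⟩⟩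
  have hyU' : y ∈ q ⁻¹ᵁ U := hyU
  have hne' : Nonempty (q ⁻¹ᵁ U) := ⟨⟨y, hyU⟩⟩
  have hη : q y ≠ genericPoint X := by
    intro h0
    have h1 := (pr_eq_bot_iff hU (q y) hyU).mpr h0
    have h2 := height_pr hU (q y) hyU
    rw [h1, Ideal.height_bot, hx] at h2
    exact absurd h2 (by decide)
  have hpe := hq.primeExt U hU
  have hc := hpe.comap_map (pr hU (q y) hyU) inferInstance
  rcases hq.dichotomy hU y hyU hy1 with h1 | ⟨_, h1⟩
  · exact absurd h1 hη
  algebraize [(X.presheaf.germ U (q y) hyU).hom, (Y.presheaf.germ (q ⁻¹ᵁ U) y hyU).hom]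
  have l1 : IsLocalization.AtPrime (X.presheaf.stalk (q y)) (pr hU (q y) hyU) :=
    isLocalization_pr hU (q y) hyU
  have l2 : IsLocalization.AtPrime (Y.presheaf.stalk y) (pr (hq.affine U hU) y hyU) :=
    isLocalization_pr (hq.affine U hU) y hyU
  obtain ⟨t, ht⟩ : ∃ t, IsGen (pr hU (q y) hyU) t :=
    exists_isGen_of_isDVR (S := X.presheaf.stalk (q y))
  have ht' := ht.map (q.app U).hom hc
  rw [← h1] at ht'
  have hdvr : IsDiscreteValuationRing (Y.presheaf.stalk y) :=
    (isDVR_and_ord_of_isGen (hq.affine U hU) y hyU hy1 _ ht').1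
  have m1 := ht.maximalIdeal_eq (S := X.presheaf.stalk (q y))
  have m2 := ht'.maximalIdeal_eq (S := Y.presheaf.stalk y)
  refine ord_ff_of_unramified q hq.generic y hx hy1 ?_ g
  rw [m1, m2, Ideal.map_span, Set.image_singleton]
  congr 2
  exact congrArg (fun φ : Γ(X, U) ⟶ Y.presheaf.stalk y => φ.hom t)
    (Scheme.Hom.germ_stalkMap q U y hyU)

end

end K654.PolyMap
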